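/-! S3298: involutions of the Sylow two-subgroup of `Sp₆(2)` with transvection words conjugating the
four representatives to them. -/

set_option autoImplicit false
set_option maxRecDepth 100000

namespace Cfsg.Agent.S3298Sp

/-- Position, representative, word. -/
def wit : List (Nat × Nat × List Nat) := [
  (1, 0, []),
  (2, 0, [27, 24]),
  (3, 1, []),
  (4, 0, [45, 40]),
  (5, 1, [54, 48]),
  (6, 1, [45, 40]),
  (7, 3, []),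
  (8, 2, []),
  (9, 1, [10, 8]),
  (10, 1, [17, 16]),
  (11, 0, [10, 8]),
  (12, 3, [35, 32, 28, 24]),
  (13, 3, [10, 8]),
  (14, 3, [17, 16]),
  (15, 1, [62, 56, 10, 8]),
  (16, 2, [54, 48]),
  (17, 1, [54, 48, 10, 8]),
  (18, 3, [42, 40, 21, 16]),
  (19, 3, [12, 8]),
  (20, 1, [55, 48]),
  (21, 0, [12, 8]),
  (22, 3, [33, 32]),
  (23, 1, [12, 8]),
  (24, 2, [20, 16]),
  (25, 1, [20, 16, 10, 8]),
  (26, 3, [31, 24, 10, 8]),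
  (27, 3, [34, 32, 12, 8]),
  (28, 3, [33, 32, 10, 8]),
  (29, 3, [20, 16, 10, 8]),
  (30, 1, [31, 24, 10, 8]),
  (31, 3, [49, 48]),
  (32, 2, [45, 40]),
  (33, 3, [49, 48, 14, 8]),
  (34, 1, [45, 40, 17, 16]),
  (35, 3, [20, 16]),
  (36, 1, [47, 40]),
  (37, 3, [34, 32]),
  (38, 0, [31, 24]),
  (39, 1, [20, 16]),
  (40, 2, [12, 8]),
  (41, 3, [28, 24, 10, 8]),
  (42, 1, [21, 16, 12, 8]),
  (43, 3, [59, 56, 12, 8]),
  (44, 3, [34, 32, 17, 16]),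
  (45, 1, [28, 24, 10, 8]),
  (46, 3, [21, 16, 12, 8]),
  (47, 3, [42, 40]),
  (48, 2, [61, 56]),
  (49, 3, [42, 40, 12, 8]),
  (50, 3, [49, 48, 20, 16]),
  (51, 1, [28, 24]),
  (52, 1, [61, 56, 10, 8]),
  (53, 3, [59, 56, 10, 8]),
  (54, 3, [35, 32, 10, 8]),
  (55, 3, [28, 24]),
  (56, 2, [28, 24]),
  (57, 3, [14, 8]),
  (58, 3, [21, 16]),
  (59, 1, [61, 56]),
  (60, 3, [35, 32]),
  (61, 1, [14, 8]),
  (62, 1, [21, 16]),
  (63, 0, [14, 8]),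
  (64, 2, [18]),
  (65, 1, [18, 10, 8]),
  (68, 3, [33, 32, 22, 10, 8]),
  (69, 3, [18, 10, 8]),
  (72, 1, [16, 10, 8]),
  (73, 2, [16]),
  (76, 3, [16, 10, 8]),
  (77, 3, [33, 32, 20, 10, 8]),
  (80, 2, [22]),
  (81, 1, [22, 10, 8]),
  (84, 3, [33, 32, 18, 10, 8]),
  (85, 3, [22, 10, 8]),
  (88, 1, [20, 10, 8]),
  (89, 2, [20]),
  (92, 3, [20, 10, 8]),
  (93, 3, [33, 32, 16, 10, 8]),
  (128, 2, [54, 20]),
  (129, 1, [54, 20, 10, 8]),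
  (130, 3, [55, 48, 16, 10, 8]),
  (131, 3, [36, 12, 8]),
  (136, 2, [48, 16]),
  (137, 1, [48, 16, 10, 8]),
  (138, 3, [55, 48, 20, 10, 8]),
  (139, 3, [38, 12, 8]),
  (144, 1, [50, 20, 10, 8]),
  (145, 2, [50, 20]),
  (146, 3, [32, 12, 8]),
  (147, 3, [53, 50, 16, 10, 8]),
  (152, 1, [52, 16, 10, 8]),
  (153, 2, [52, 16]),
  (154, 3, [34, 12, 8]),
  (155, 3, [53, 50, 20, 10, 8]),
  (192, 2, [50]),
  (193, 1, [50, 10, 8]),
  (200, 1, [48, 10, 8]),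
  (201, 2, [48]),
  (208, 1, [54, 10, 8]),
  (209, 2, [54]),
  (216, 2, [52]),
  (217, 1, [52, 10, 8]),
  (230, 3, [39, 36, 18, 10, 8]),
  (231, 3, [52, 28, 24]),
  (238, 3, [54, 28, 24]),
  (239, 3, [39, 36, 16, 10, 8]),
  (246, 3, [48, 28, 24]),
  (247, 3, [35, 32, 18, 10, 8]),
  (254, 3, [35, 32, 16, 10, 8]),
  (255, 3, [50, 28, 24]),
  (256, 2, [45, 12]),
  (257, 3, [37, 28, 24, 10, 8]),
  (258, 1, [45, 29, 16, 12]),
  (259, 3, [36, 20, 16]),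
  (264, 2, [40, 8]),
  (265, 3, [36, 28, 24, 10, 8]),
  (266, 1, [40, 25, 16, 8]),
  (267, 3, [37, 20, 16]),
  (288, 1, [41, 29, 16, 12]),
  (289, 3, [32, 20, 16]),
  (290, 2, [41, 12]),
  (291, 3, [33, 28, 24, 10, 8]),
  (296, 1, [44, 25, 16, 8]),
  (297, 3, [33, 20, 16]),
  (298, 2, [44, 8]),
  (299, 3, [32, 28, 24, 10, 8]),
  (384, 2, [61, 28]),
  (385, 3, [37, 14, 8]),
  (386, 3, [37, 21, 16]),
  (387, 1, [56, 24]),
  (392, 2, [56, 24]),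
  (393, 3, [36, 14, 8]),
  (394, 3, [36, 21, 16]),
  (395, 1, [61, 28]),
  (432, 1, [57, 28]),
  (433, 3, [32, 21, 16]),
  (434, 3, [32, 14, 8]),
  (435, 2, [60, 24]),
  (440, 1, [60, 24]),
  (441, 3, [33, 21, 16]),
  (442, 3, [33, 14, 8]),
  (443, 2, [57, 28])]

end Cfsg.Agent.S3298Sp
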