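import Cfsg.Agent.Lib.S3342Id.SpBound
import Cfsg.Agent.Lib.S3298Sp.Data

/-!
S3298: facts on transvections of six-dimensional symplectic space over two elements, by vector codes.
-/

set_option autoImplicit false
set_option maxRecDepth 100000
set_option synthInstance.maxSize 10000
set_option linter.style.haveILetI false

namespace Cfsg.Agent.S3298Sp

open Cfsg.Agent.CosetCert Cfsg.Agent.S3342Id Cfsg.Agent.S3342Id.Closure Cfsg.Agent.S3342Id.Closure.Big Matrix

/-- The transvection of a coded vector. -/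
def T (c : ℕ) : Sp62 := tv (sv c)

/-- Its code. -/
def tcd (c : ℕ) : ℕ := pk fun k => if bc (2 ^ k) c then 2 ^ k ^^^ c else 2 ^ k

theorem form_bc : ∀ x < 64, ∀ c < 64,
    Cfsg.sympForm 3 (ZMod 2) (sv x) (sv c) = if bc x c then 1 else 0 := by decide +kernel

theorem T_act {c x : ℕ} (hc : c < 64) (hx : x < 64) :
    (T c).1 *ᵥ sv x = sv (if bc x c then x ^^^ c else x) := by
  rw [T, tv_act, form_bc x hx c hc]
  cases bc x c <;> simp [sv_xor x hx c hc]

theorem rep_T {c : ℕ} (hc : c < 64) : Rep (T c) (tcd c) := by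
  have hp : ∀ k < 6, (2 : ℕ) ^ k < 64 := by decide
  have hb : ∀ k, (if k < 6 then (if bc (2 ^ k) c then 2 ^ k ^^^ c else 2 ^ k) else 0) < 64 := fun k => by
    split_ifs with h h'
    · exact xor_lt (hp k h) hc
    · exact hp k h
    · norm_num
  have e : tcd c = pk fun k => if k < 6 then (if bc (2 ^ k) c then 2 ^ k ^^^ c else 2 ^ k) else 0 := by
    simp [tcd, pk]
  refine ⟨e ▸ pk_lt hb, fun k hk => ?_⟩
  rw [T_act hc (hp k hk), e, img_pk hb k hk, if_pos hk]

theorem T_sq (c : ℕ) : T c * T c = 1 := tv_sq _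

theorem T_inv (c : ℕ) : (T c)⁻¹ = T c := inv_eq_of_mul_eq_one_right (T_sq c)

theorem tcd_inj : ∀ c < 64, ∀ d < 64, tcd c = tcd d → c = d := by decide +kernel

theorem T_inj {c d : ℕ} (hc : c < 64) (hd : d < 64) (h : T c = T d) : c = d :=
  tcd_inj c hc d hd (rep_unique (rep_T hc) (h ▸ rep_T hd))

theorem T_zero : T 0 = 1 := eq_of_code (rep_T (by norm_num)) rep_one (by decide +kernel)

theorem T_ne_one {c : ℕ} (hc : c < 64) (h0 : c ≠ 0) : T c ≠ 1 := fun h =>
  h0 (T_inj hc (by norm_num) (h.trans T_zero.symm))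

theorem exists_code (v : Fin 3 ⊕ Fin 3 → ZMod 2) : ∃ c < 64, sv c = v := by
  obtain ⟨c, h⟩ := sv_all v
  exact ⟨c, c.2, h⟩

theorem conj_T (A : Sp62) {c d : ℕ} (h : A.1 *ᵥ sv c = sv d) : A * T c * A⁻¹ = T d := by
  rw [T, conj_tv, h, mul_inv_cancel_right]
  rfl

theorem act_eq_of_conj {A : Sp62} {c d : ℕ} (hd : d < 64) (h : A * T c * A⁻¹ = T d) :
    A.1 *ᵥ sv c = sv d := by
  obtain ⟨e, he, hA⟩ := exists_code (A.1 *ᵥ sv c)
  rw [← hA, T_inj hd he (h.symm.trans (conj_T A hA.symm))]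

theorem comm_ok : ((List.range 64).all fun c => (List.range 64).all fun d =>
    Nat.beq c 0 || Nat.beq d 0 || (bc c d == !Nat.beq (cmul (tcd c) (tcd d)) (cmul (tcd d) (tcd c)))) = true := by
  decide +kernel

theorem comm_code {c d : ℕ} (hc : c < 64) (hd : d < 64) (c0 : c ≠ 0) (d0 : d ≠ 0) :
    bc c d = false ↔ cmul (tcd c) (tcd d) = cmul (tcd d) (tcd c) := by
  have h := List.all_eq_true.1 (List.all_eq_true.1 comm_ok c (List.mem_range.2 hc)) d (List.mem_range.2 hd)
  simp only [Bool.or_eq_true, beq_iff_eq] at h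
  rcases h with (h | h) | h
  · exact absurd (Nat.eq_of_beq_eq_true h) c0
  · exact absurd (Nat.eq_of_beq_eq_true h) d0
  · rw [h, Bool.not_eq_false']
    exact ⟨Nat.eq_of_beq_eq_true, fun e => by rw [e]; exact Nat.beq_refl _⟩

theorem commute_iff {c d : ℕ} (hc : c < 64) (hd : d < 64) (c0 : c ≠ 0) (d0 : d ≠ 0) :
    Commute (T c) (T d) ↔ bc c d = false := by
  rw [comm_code hc hd c0 d0]
  have h1 := rep_mul (rep_T hc) (rep_T hd)
  have h2 := rep_mul (rep_T hd) (rep_T hc)
  constructor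
  · intro h
    rw [h.eq] at h1
    exact rep_unique h1 h2
  · exact fun h => eq_of_code h1 h2 h

/-- The fixed code. -/
theorem fix_of_commute {A : Sp62} {a c : ℕ} (hA : Rep A a) (hc : c < 64) (c0 : c ≠ 0)
    (h : Commute A (T c)) : apc a c = c := by
  have := act_eq_of_conj hc (show A * T c * A⁻¹ = T c by rw [h.eq, mul_inv_cancel_right])
  rw [apc_spec hA hc] at this
  exact sv_inj _ (apc_lt _ _) _ hc this

theorem commute_of_fix {A : Sp62} {a c : ℕ} (hA : Rep A a) (hc : c < 64) (h : apc a c = c) :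
    Commute A (T c) :=
  mul_inv_eq_iff_eq_mul.1 (conj_T A (by rw [apc_spec hA hc, h]))

/-! ### The representatives -/

/-- The product of two commuting transvections. -/
def y : Sp62 := T 1 * T 2

/-- The product over a line. -/
def x : Sp62 := T 1 * T 2 * T 3

/-- The product over a triangle. -/
def z : Sp62 := T 1 * T 2 * T 4

/-- Their codes. -/
def yc : ℕ := cmul (tcd 1) (tcd 2)
/-- The code of the line. -/
def xc : ℕ := cmul yc (tcd 3)
/-- The code of the triangle. -/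
def zc : ℕ := cmul yc (tcd 4)

theorem rep_y : Rep y yc := rep_mul (rep_T (by norm_num)) (rep_T (by norm_num))
theorem rep_x : Rep x xc := rep_mul rep_y (rep_T (by norm_num))
theorem rep_z : Rep z zc := rep_mul rep_y (rep_T (by norm_num))

theorem septet_code : cmul (cmul (cmul (cmul (cmul (cmul (tcd 1) (tcd 2)) (tcd 3)) (tcd 4)) (tcd 5)) (tcd 6))
    (tcd 7) = c1 := by decide +kernel

/-- The seven transvections of a totally isotropic subspace multiply to one. -/
theorem septet : T 1 * T 2 * T 3 * T 4 * T 5 * T 6 * T 7 = 1 :=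
  eq_of_code (rep_mul (rep_mul (rep_mul (rep_mul (rep_mul (rep_mul (rep_T (by norm_num)) (rep_T (by norm_num)))
    (rep_T (by norm_num))) (rep_T (by norm_num))) (rep_T (by norm_num))) (rep_T (by norm_num)))
    (rep_T (by norm_num))) rep_one septet_code

theorem low_bc : ∀ c < 8, ∀ d < 8, bc c d = false := by decide +kernel

theorem low_comm {c d : ℕ} (hc : c < 8) (hd : d < 8) (c0 : c ≠ 0) (d0 : d ≠ 0) : Commute (T c) (T d) :=
  (commute_iff (by omega) (by omega) c0 d0).2 (low_bc c hc d hd)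

theorem xz_ne_T : ∀ c < 64, tcd c ≠ xc ∧ tcd c ≠ zc ∧ tcd c ≠ yc := by decide +kernel

theorem x_ne_T {c : ℕ} (hc : c < 64) : x ≠ T c := fun h =>
  (xz_ne_T c hc).1 (rep_unique (rep_T hc) (h ▸ rep_x))

theorem x_sq : x * x = 1 :=
  eq_of_code (rep_mul rep_x rep_x) rep_one (by decide +kernel)

theorem fixed_rep : ∀ c < 8, apc yc c = c ∧ apc xc c = c ∧ apc zc c = c := by decide +kernel

theorem quad_code : ∀ v < 64, bc v (apc yc v) = bc v 3 ∧ bc v (apc zc v) = bc v 7 := by decide +kernel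

theorem pin_code : ∀ p < 64, (∀ v < 64, bc v p = bc v 3) → p = 3 := by decide +kernel

theorem pin_code' : ∀ p < 64, (∀ v < 64, bc v p = bc v 7) → p = 7 := by decide +kernel

theorem form_apc {A : Sp62} {a : ℕ} (hA : Rep A a) {u v : ℕ} (hu : u < 64) (hv : v < 64) :
    bc (apc a u) (apc a v) = bc u v := by
  have h := form_act A (sv u) (sv v)
  rw [apc_spec hA hu, apc_spec hA hv, form_bc _ (apc_lt _ _) _ (apc_lt _ _), form_bc u hu v hv] at h
  revert h
  cases bc (apc a u) (apc a v) <;> cases bc u v <;> simp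

/-- A map commuting with `w` fixes the vector of the quadratic form of `w`. -/
theorem fix_quad {A w : Sp62} {wc' p : ℕ} (hw : Rep w wc') (hp : p < 64) (hc : Commute A w)
    (hq : ∀ v < 64, bc v (apc wc' v) = bc v p) (pin : ∀ q < 64, (∀ v < 64, bc v q = bc v p) → q = p) :
    A.1 *ᵥ sv p = sv p := by
  obtain ⟨a, ha⟩ : ∃ a, Rep A a := by
    choose f hf1 hf2 using fun k : ℕ => exists_code (A.1 *ᵥ sv (2 ^ k))
    exact ⟨pk f, pk_lt hf1, fun k hk => by rw [img_pk hf1 k hk, hf2]⟩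
  rw [apc_spec ha hp, pin _ (apc_lt _ _) fun v hv => ?_]
  obtain ⟨u, hu, hAu⟩ := exists_code ((A⁻¹).1 *ᵥ sv v)
  have huv : apc a u = v := sv_inj _ (apc_lt _ _) _ hv (by
    rw [← apc_spec ha hu, hAu, ← act_mul, mul_inv_cancel, act_one])
  have hwv : apc wc' v = apc a (apc wc' u) := sv_inj _ (apc_lt _ _) _ (apc_lt _ _) (by
    rw [← apc_spec hw hv, ← apc_spec ha (apc_lt _ _), ← apc_spec hw hu, ← act_mul, hc.eq, act_mul,
      apc_spec ha hu, huv])
  have h1 : bc v (apc a p) = bc u p := by rw [← huv]; exact form_apc ha hu hp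
  rw [h1, ← hq v hv, hwv, ← hq u hu]
  conv_rhs => rw [← huv]
  exact (form_apc ha hu (apc_lt _ _)).symm

theorem fix_y {A : Sp62} (h : Commute A y) : A.1 *ᵥ sv 3 = sv 3 :=
  fix_quad rep_y (by norm_num) h (fun v hv => (quad_code v hv).1) pin_code

theorem fix_z {A : Sp62} (h : Commute A z) : A.1 *ᵥ sv 7 = sv 7 :=
  fix_quad rep_z (by norm_num) h (fun v hv => (quad_code v hv).2) pin_code'

theorem perp_x : ∀ u < 64, apc xc u = u → bc u 1 = false := by decide +kernel

theorem line_code : apc xc 32 = 32 ∧ bc 32 4 = true := by decide +kernel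

theorem no_move_x {A : Sp62} (h : Commute A x) : A.1 *ᵥ sv 1 ≠ sv 4 := by
  intro he
  obtain ⟨u, hu, hAu⟩ := exists_code ((A⁻¹).1 *ᵥ sv 32)
  have hfix : apc xc u = u := sv_inj _ (apc_lt _ _) _ hu (by
    rw [← apc_spec rep_x hu, hAu, ← act_mul, ← (h.inv_left).eq, act_mul, apc_spec rep_x (by norm_num),
      line_code.1])
  have h1 := perp_x u hu hfix
  have h2 := form_act A (sv u) (sv 1)
  rw [hAu, ← act_mul, mul_inv_cancel, act_one, he, ← hAu, form_bc 32 (by norm_num) 4 (by norm_num),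
    form_bc u hu 1 (by norm_num), h1, line_code.2] at h2
  simp at h2

/-- Two steps of transvections fixing what they must. -/
theorem move_code : (∀ a < 64, a ≠ 0 → (a = 1 ∨ bc a 1 = true ∨ ∃ d < 64, bc a d = true ∧ bc d 1 = true)) ∧
    ∀ b < 64, b ≠ 0 → b ≠ 1 → bc 1 b = false → (b = 2 ∨ bc b 2 = true ∨
      ∃ d < 64, bc 1 d = false ∧ bc b d = true ∧ bc d 2 = true) := by decide +kernel

theorem bc_step : ∀ a < 64, ∀ d < 64, bc a d = true → bc a (a ^^^ d) = true ∧
    a ^^^ (a ^^^ d) = d ∧ (bc 1 a = false → bc 1 d = false → bc 1 (a ^^^ d) = false) := by decide +kernel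

theorem step {a d : ℕ} (ha : a < 64) (hd : d < 64) (h : bc a d = true) :
    (T (a ^^^ d)).1 *ᵥ sv a = sv d := by
  rw [T_act (xor_lt ha hd) ha, if_pos (bc_step a ha d hd h).1, (bc_step a ha d hd h).2.1]

theorem keep {a d : ℕ} (ha : a < 64) (hd : d < 64) (h : bc a d = true) (h1 : bc 1 a = false)
    (h2 : bc 1 d = false) : (T (a ^^^ d)).1 *ᵥ sv 1 = sv 1 := by
  rw [T_act (xor_lt ha hd) (by norm_num), if_neg]
  simp [(bc_step a ha d hd h).2.2 h1 h2]

/-- Pairs of commuting transvections are conjugate to the first two. -/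
theorem exists_pair {a b : ℕ} (ha : a < 64) (hb : b < 64) (a0 : a ≠ 0) (b0 : b ≠ 0) (hne : a ≠ b)
    (h : bc a b = false) : ∃ B : Sp62, B * (T a * T b) * B⁻¹ = y := by
  obtain ⟨A, hA⟩ : ∃ A : Sp62, A.1 *ᵥ sv a = sv 1 := by
    rcases move_code.1 a ha a0 with rfl | h1 | ⟨d, hd, h1, h2⟩
    · exact ⟨1, act_one _⟩
    · exact ⟨_, step ha (by norm_num) h1⟩
    · exact ⟨T (d ^^^ 1) * T (a ^^^ d), by rw [act_mul, step ha hd h1, step hd (by norm_num) h2]⟩
  obtain ⟨b', hb', hAb⟩ := exists_code (A.1 *ᵥ sv b)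
  have h' : bc 1 b' = false := by
    have := form_act A (sv a) (sv b)
    rw [hA, ← hAb, form_bc 1 (by norm_num) b' hb', form_bc a ha b hb, h] at this
    revert this
    cases bc 1 b' <;> simp
  have n0 : b' ≠ 0 := fun e => b0 (sv_inj _ hb 0 (by norm_num) (by
    have := congrArg (fun v => (A⁻¹).1 *ᵥ v) hAb
    simp only [e, ← act_mul, inv_mul_cancel, act_one, sv_zero, Matrix.mulVec_zero] at this
    rw [sv_zero, ← this]))
  have n1 : b' ≠ 1 := fun e => hne (sv_inj _ ha _ hb (by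
    have := congrArg (fun v => (A⁻¹).1 *ᵥ v) (hA.trans (e ▸ hAb))
    simp only [← act_mul, inv_mul_cancel, act_one] at this
    exact this))
  obtain ⟨B, hB1, hB2⟩ : ∃ B : Sp62, B.1 *ᵥ sv 1 = sv 1 ∧ B.1 *ᵥ sv b' = sv 2 := by
    have h12 : bc 1 2 = false := by decide +kernel
    rcases move_code.2 b' hb' n0 n1 h' with rfl | h1 | ⟨d, hd, h0, h1, h2⟩
    · exact ⟨1, act_one _, act_one _⟩
    · exact ⟨_, keep hb' (by norm_num) h1 h' h12, step hb' (by norm_num) h1⟩
    · refine ⟨T (d ^^^ 2) * T (b' ^^^ d), ?_, by rw [act_mul, step hb' hd h1, step hd (by norm_num) h2]⟩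
      rw [act_mul, keep hb' hd h1 h' h0, keep hd (by norm_num) h2 h0 h12]
  refine ⟨B * A, ?_⟩
  have e1 := conj_T (B * A) (c := a) (d := 1) (by rw [act_mul, hA, hB1])
  have e2 := conj_T (B * A) (c := b) (d := 2) (by rw [act_mul, ← hAb, hB2])
  rw [← conj_mul, e1, e2, y]

/-! ### Involutions -/

/-- The code of a word of transvections. -/
def twc (w : List ℕ) : ℕ := w.foldr (fun c acc => cmul (tcd c) acc) c1

theorem rep_twc : ∀ w : List ℕ, (∀ c ∈ w, c < 64) → Rep (w.map T).prod (twc w)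
  | [], _ => rep_one
  | c :: w, h => by
    rw [List.map_cons, List.prod_cons]
    exact rep_mul (rep_T (h c List.mem_cons_self)) (rep_twc w fun d hd => h d (List.mem_cons_of_mem _ hd))

/-- The code of a representative. -/
def rcd (r : ℕ) : ℕ := [tcd 1, yc, xc, zc].getD r (tcd 1)

theorem inv_ok : ((List.range 512).all fun i => Nat.beq i 0 || !Nat.beq (cmul (sC i) (sC i)) c1 ||
      wit.any fun p => Nat.beq p.1 i) = true ∧
    (wit.all fun p => (p.2.2.all fun c => Nat.blt c 64) && Nat.blt p.2.1 4 &&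
      Nat.beq (cmul (sC p.1) (twc p.2.2)) (cmul (twc p.2.2) (rcd p.2.1))) = true := by decide +kernel

/-- The four representatives. -/
def rep4 (r : ℕ) : Sp62 := [T 1, y, x, z].getD r (T 1)

theorem rep_rep4 : ∀ r < 4, Rep (rep4 r) (rcd r) := by
  intro r hr
  interval_cases r
  exacts [rep_T (by norm_num), rep_y, rep_x, rep_z]

/-- Every involution is conjugate to one of the four representatives. -/
theorem exists_rep4 {t : Sp62} (t2 : t * t = 1) (t1 : t ≠ 1) :
    ∃ r < 4, ∃ B : Sp62, t = B * rep4 r * B⁻¹ := by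
  haveI : Fact (Nat.Prime 2) := ⟨Nat.prime_two⟩
  obtain ⟨m, hmt⟩ := exists_conj_SS (P := Subgroup.zpowers t) (IsPGroup.of_card (n := 1) (by
      rw [Nat.card_zpowers, orderOf_eq_prime (by rw [sq, t2]) t1, pow_one]))
  obtain ⟨g, hg, v, hv, e⟩ := hmt t (Subgroup.mem_zpowers t)
  set i := 64 * g + v with hidef
  have hR : Rep (m * t * m⁻¹) (sC i) := by
    unfold sC
    rw [show i / 64 = g by omega, show i % 64 = v by omega, ← e]
    exact rep_mul (rep_lE hg) (rep_rE hv)
  have hi := List.all_eq_true.1 inv_ok.1 i (List.mem_range.2 (by omega))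
  simp only [Bool.or_eq_true, Bool.not_eq_true', List.any_eq_true] at hi
  rcases hi with (h | h) | ⟨p, hp, hpi⟩
  · refine absurd ?_ t1
    obtain ⟨rfl, rfl⟩ : g = 0 ∧ v = 0 := by
      have := Nat.eq_of_beq_eq_true h
      omega
    rw [lE_zero, rE_zero, mul_one] at e
    exact conj_eq_one_iff.1 e.symm
  · have h2 := rep_mul hR hR
    rw [show m * t * m⁻¹ * (m * t * m⁻¹) = m * (t * t) * m⁻¹ by group, t2, mul_one, mul_inv_cancel] at h2
    rw [rep_unique h2 rep_one, Nat.beq_refl] at h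
    exact Bool.noConfusion h
  have hq := List.all_eq_true.1 inv_ok.2 p hp
  simp only [Bool.and_eq_true, List.all_eq_true, Nat.blt_eq] at hq
  obtain ⟨⟨h64, h4⟩, hc⟩ := hq
  rw [Nat.eq_of_beq_eq_true hpi] at hc
  set A := (p.2.2.map T).prod
  have hA := rep_twc _ h64
  have he : m * t * m⁻¹ * A = A * rep4 p.2.1 :=
    eq_of_code (rep_mul hR hA) (rep_mul hA (rep_rep4 _ h4)) (Nat.eq_of_beq_eq_true hc)
  refine ⟨_, h4, m⁻¹ * A, ?_⟩
  rw [show m⁻¹ * A * rep4 p.2.1 * (m⁻¹ * A)⁻¹ = m⁻¹ * (A * rep4 p.2.1) * A⁻¹ * m by group, ← he]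
  group

end Cfsg.Agent.S3298Sp
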