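import Cfsg.Agent.Lib.S3342Id.E7Central
import Cfsg.Agent.Lib.S3342Id.Sp62Pres

/-!
S3298: seven involutions with the diagram of type `E₇` and trivial common centraliser generate `Sp₆(2)`.
-/

set_option autoImplicit false
set_option maxRecDepth 100000

namespace Cfsg.Agent.S3298Sp

open Cfsg.Agent.S3342Id Cfsg.Agent.CosetCert Cfsg.Agent.CosetData Cfsg.Agent.FischerPresented

variable {G : Type*} [Group G]

/-- The edges of the diagram. -/
def edges : List (ℕ × ℕ) := [(0, 1), (1, 2), (2, 3), (3, 4), (1, 5), (5, 6)]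

/-- The other pairs. -/
def nonedges : List (ℕ × ℕ) :=
  [(0, 2), (0, 3), (0, 4), (0, 5), (0, 6), (1, 3), (1, 4), (1, 6), (2, 4), (2, 5), (2, 6), (3, 5), (3, 6),
    (4, 5), (4, 6)]

theorem w4' {g : ℕ → G} {a b : ℕ} (ha : g a * g a = 1) (hb : g b * g b = 1) (h : Commute (g a) (g b)) :
    wprod g [a, b, a, b] = 1 := by
  simp only [wprod_cons, wprod_nil, mul_one]
  rw [show g a * (g b * (g a * g b)) = g a * (g b * g a) * g b by group, ← h.eq, ← mul_assoc, ha, one_mul, hb]

theorem w6' {g : ℕ → G} {a b : ℕ} (h : g a * g b * (g a * g b) * (g a * g b) = 1) :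
    wprod g [a, b, a, b, a, b] = 1 := by
  simp only [wprod_cons, wprod_nil, mul_one]
  rw [← h]
  group

/-- Renumbering. -/
def ren (i : ℕ) : ℕ := [4, 3, 2, 1, 5, 6, 0].getD i 7

theorem take_eq : ∀ w ∈ ChainS62.base.take 21,
    (∃ p ∈ edges, w = [p.1, p.2, p.1, p.2, p.1, p.2]) ∨ ∃ p ∈ nonedges, w = [p.1, p.2, p.1, p.2] := by
  decide +kernel

theorem base_rest : ∀ w ∈ ChainS62.base, w ∈ ChainS62.base.take 21 ∨ w = rep 9 [0, 1, 2, 3, 4, 5, 6] := by
  decide +kernel

theorem e7_words : ∀ w ∈ ChainE7.base,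
    w.map ren ∈ ChainS62.base.take 21 ∨ (w.map ren).reverse ∈ ChainS62.base.take 21 := by decide +kernel

theorem cox_map : ([6, 3, 2, 1, 0, 4, 5] : List ℕ).map ren = [0, 1, 2, 3, 4, 5, 6] ∧
    ∀ i < 7, ∃ k < 7, ren k = i := by decide +kernel

/-- The seven involutions satisfy the presentation. -/
theorem base_of_diagram {g : ℕ → G} (hinv : ∀ i, g i * g i = 1)
    (hbr : ∀ p ∈ edges, g p.1 * g p.2 * (g p.1 * g p.2) * (g p.1 * g p.2) = 1)
    (hco : ∀ p ∈ nonedges, Commute (g p.1) (g p.2))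
    (hcen : ∀ w : G, (∀ i < 7, Commute w (g i)) → w = 1) :
    ∀ w ∈ ChainS62.base, wprod g w = 1 := by
  have hcox : ∀ w ∈ ChainS62.base.take 21, wprod g w = 1 := by
    intro w hw
    rcases take_eq w hw with ⟨p, hp, rfl⟩ | ⟨p, hp, rfl⟩
    · exact w6' (hbr p hp)
    · exact w4' (hinv _) (hinv _) (hco p hp)
  let g7 : ℕ → G := fun i => g (ren i)
  have hmap : ∀ w : List ℕ, wprod g7 w = wprod g (w.map ren) := fun w => by
    simp only [wprod, List.map_map]; rfl
  have hb7 : ∀ w ∈ ChainE7.base, wprod g7 w = 1 := by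
    intro w hw
    rw [hmap]
    rcases e7_words w hw with h | h
    · exact hcox _ h
    · have e := wprod_reverse hinv (w.map ren)
      rw [hcox _ h] at e
      exact inv_eq_one.1 e.symm
  have hcent := central_e7 g7 (fun i => hinv _) hb7
  have hω : wprod g7 cox7 = 1 := hcen _ fun i hi => by
    obtain ⟨k, hk, rfl⟩ := cox_map.2 i hi
    exact hcent k hk
  intro w hw
  rcases base_rest w hw with h | rfl
  · exact hcox w h
  · rw [← hω, cox7, wprod_rep, wprod_rep, hmap, cox_map.1]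

end Cfsg.Agent.S3298Sp
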