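import Cfsg.Agent.Lib.L43Three.CaseB.Invol.Generic

/-!
S3298: odd subgroups normalised by commuting involutions with small centralisers.
-/

set_option autoImplicit false
set_option linter.unusedSectionVars false

namespace Cfsg.Agent.S3298Sp

variable {G : Type*} [Group G] [Finite G]

theorem conj_mem_inf {O : Subgroup G} {a c : G} (ha : a ∈ Subgroup.normalizer (O : Set G))
    (hac : Commute a c) : a ∈ Subgroup.normalizer ((O ⊓ Subgroup.centralizer {c} : Subgroup G) : Set G) := by
  rw [Subgroup.mem_normalizer_iff]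
  intro h
  rw [Subgroup.mem_inf, Subgroup.mem_inf, Subgroup.mem_centralizer_singleton_iff,
    Subgroup.mem_centralizer_singleton_iff, ← Subgroup.mem_normalizer_iff.1 ha h]
  refine and_congr_right fun _ => ?_
  constructor
  · intro e
    have := (Commute.conj_iff a).2 (show Commute h c from e)
    rwa [hac.eq, mul_inv_cancel_right] at this
  · intro e
    have := (Commute.conj_iff a⁻¹).2 (show Commute (a * h * a⁻¹) c from e)
    rw [show a⁻¹ * (a * h * a⁻¹) * a⁻¹⁻¹ = h by group, hac.inv_left.eq, mul_inv_cancel_right] at this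
    exact this

theorem odd_inf {O : Subgroup G} (h : Odd (Nat.card O)) (H : Subgroup G) : Odd (Nat.card ↥(O ⊓ H)) :=
  h.of_dvd_nat (Subgroup.card_dvd_of_le inf_le_left)

/-- An odd subgroup normalised by a four-group is generated by the fixed points. -/
theorem le_of_pair {O M : Subgroup G} (hodd : Odd (Nat.card O)) {a b : G} (haa : a * a = 1)
    (hbb : b * b = 1) (hab : Commute a b) (ha : a ≠ 1) (hb : b ≠ 1) (hne : a ≠ b)
    (hna : a ∈ Subgroup.normalizer (O : Set G)) (hnb : b ∈ Subgroup.normalizer (O : Set G))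
    (h1 : O ⊓ Subgroup.centralizer {a} ≤ M) (h2 : O ⊓ Subgroup.centralizer {b} ≤ M)
    (h3 : O ⊓ Subgroup.centralizer {a * b} ≤ M) : O ≤ M := by
  set N := Subgroup.normalizer (O : Set G)
  have hn : (O.subgroupOf N).Normal := Subgroup.normal_in_normalizer
  have hle : O ≤ N := Subgroup.le_normalizer
  have h := L43Three.CaseB.le_of_four (O := O.subgroupOf N) (H := M.subgroupOf N) hn
    (by rwa [Nat.card_congr (Subgroup.subgroupOfEquivOfLe hle).toEquiv])
    (a := ⟨a, hna⟩) (b := ⟨b, hnb⟩) (Subtype.ext haa) (Subtype.ext hbb) (Subtype.ext hab.eq)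
    (fun e => ha (congrArg Subtype.val e)) (fun e => hb (congrArg Subtype.val e))
    (fun e => hne (congrArg Subtype.val e)) ?_
  · intro g hg
    exact Subgroup.mem_subgroupOf.1 (h (x := ⟨g, hle hg⟩) (Subgroup.mem_subgroupOf.2 hg))
  intro g hg c hc hgc
  refine Subgroup.mem_subgroupOf.2 ?_
  have hg' := Subgroup.mem_subgroupOf.1 hg
  have hgc' : (g : G) * c = c * g := congrArg Subtype.val hgc
  rcases hc with rfl | rfl | rfl
  · exact h1 ⟨hg', Subgroup.mem_centralizer_singleton_iff.2 hgc'⟩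
  · exact h2 ⟨hg', Subgroup.mem_centralizer_singleton_iff.2 hgc'⟩
  · exact h3 ⟨hg', Subgroup.mem_centralizer_singleton_iff.2 hgc'⟩

/-- An odd subgroup normalised by seven commuting involutions of product one. -/
theorem le_of_septet {O M : Subgroup G} (hodd : Odd (Nat.card O)) {t : ℕ → G}
    (hsq : ∀ i < 7, t i * t i = 1) (h1 : ∀ i < 7, t i ≠ 1) (hinj : ∀ i < 7, ∀ k < 7, t i = t k → i = k)
    (hco : ∀ i < 7, ∀ k < 7, Commute (t i) (t k)) (hn : ∀ i < 7, t i ∈ Subgroup.normalizer (O : Set G))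
    (hprod : t 0 * t 1 * t 2 * t 3 * t 4 * t 5 * t 6 = 1)
    (hfix : ∀ i < 7, O ⊓ Subgroup.centralizer {t i} ≤ M) : O ≤ M := by
  have step : ∀ (P : Subgroup G), P ≤ O → ∀ i < 7, ∀ k < 7, i ≠ k →
      t i ∈ Subgroup.normalizer (P : Set G) → t k ∈ Subgroup.normalizer (P : Set G) →
      P ⊓ Subgroup.centralizer {t i * t k} ≤ M → P ≤ M := fun P hP i hi k hk hik hni hnk h3 =>
    le_of_pair (hodd.of_dvd_nat (Subgroup.card_dvd_of_le hP)) (hsq i hi) (hsq k hk) (hco i hi k hk)
      (h1 i hi) (h1 k hk) (fun e => hik (hinj i hi k hk e)) hni hnk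
      ((inf_le_inf_right _ hP).trans (hfix i hi)) ((inf_le_inf_right _ hP).trans (hfix k hk)) h3
  set O1 := O ⊓ Subgroup.centralizer {t 0 * t 1}
  set O2 := O1 ⊓ Subgroup.centralizer {t 2 * t 3}
  have n1 : ∀ i < 7, t i ∈ Subgroup.normalizer (O1 : Set G) := fun i hi =>
    conj_mem_inf (hn i hi) ((hco i hi 0 (by norm_num)).mul_right (hco i hi 1 (by norm_num)))
  have n2 : ∀ i < 7, t i ∈ Subgroup.normalizer (O2 : Set G) := fun i hi =>
    conj_mem_inf (n1 i hi) ((hco i hi 2 (by norm_num)).mul_right (hco i hi 3 (by norm_num)))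
  refine step O le_rfl 0 (by norm_num) 1 (by norm_num) (by norm_num) (hn 0 (by norm_num)) (hn 1 (by norm_num)) ?_
  refine step O1 inf_le_left 2 (by norm_num) 3 (by norm_num) (by norm_num) (n1 2 (by norm_num))
    (n1 3 (by norm_num)) ?_
  refine step O2 (inf_le_left.trans inf_le_left) 4 (by norm_num) 5 (by norm_num) (by norm_num)
    (n2 4 (by norm_num)) (n2 5 (by norm_num)) ?_
  rintro g ⟨⟨⟨hgO, h01⟩, h23⟩, h45⟩
  refine hfix 6 (by norm_num) ⟨hgO, Subgroup.mem_centralizer_singleton_iff.2 ?_⟩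
  have hall : Commute g (t 0 * t 1 * (t 2 * t 3) * (t 4 * t 5)) :=
    ((show Commute g _ from Subgroup.mem_centralizer_singleton_iff.1 h01).mul_right
      (show Commute g _ from Subgroup.mem_centralizer_singleton_iff.1 h23)).mul_right
      (show Commute g _ from Subgroup.mem_centralizer_singleton_iff.1 h45)
  rw [show t 6 = (t 0 * t 1 * (t 2 * t 3) * (t 4 * t 5))⁻¹ from eq_inv_of_mul_eq_one_right (by
    rw [← hprod]; simp only [mul_assoc])]
  exact hall.inv_right.eq

end Cfsg.Agent.S3298Sp
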