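import Mathlib.GroupTheory.OrderOfElement
import Mathlib.Algebra.Group.Subgroup.Finite
import Mathlib.Algebra.Group.Commute.Basic
import Mathlib.Tactic.Group

/-!
S3298: two non-conjugate involutions of a subgroup and the involution between them.
-/

set_option autoImplicit false
set_option linter.unusedSectionVars false

namespace Cfsg.Agent.S3298Sp

variable {G : Type*} [Group G] [Finite G]

theorem flip_pow {p e : G} (hp : p * p = 1) (he : e * e = 1) (k : ℕ) :
    p * (p * e) ^ k * p = ((p * e) ^ k)⁻¹ := by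
  have hpi : p⁻¹ = p := inv_eq_of_mul_eq_one_right hp
  have h : p * (p * e) * p⁻¹ = (p * e)⁻¹ := by
    rw [_root_.mul_inv_rev, hpi, inv_eq_of_mul_eq_one_right he, ← mul_assoc, hp, one_mul]
  calc p * (p * e) ^ k * p = p * (p * e) ^ k * p⁻¹ := by rw [hpi]
    _ = ((p * e) ^ k)⁻¹ := by rw [← conj_pow, h, inv_pow]

theorem pow_conj {p e : G} (hp : p * p = 1) (he : e * e = 1) (k : ℕ) :
    (p * e) ^ k * p * ((p * e) ^ k)⁻¹ = (p * e) ^ (2 * k) * p := by
  rw [← flip_pow hp he k, two_mul, pow_add]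
  calc (p * e) ^ k * p * (p * (p * e) ^ k * p) = (p * e) ^ k * (p * p) * (p * e) ^ k * p := by group
    _ = _ := by rw [hp, mul_one]

theorem pow_conj' {p e : G} (hp : p * p = 1) (he : e * e = 1) (k : ℕ) :
    (p * e) ^ (k + 1) * e * ((p * e) ^ (k + 1))⁻¹ = (p * e) ^ (2 * k + 1) * p := by
  have h : (p * e) * e = p := by rw [mul_assoc, he, mul_one]
  rw [pow_succ, _root_.mul_inv_rev]
  calc (p * e) ^ k * (p * e) * e * ((p * e)⁻¹ * ((p * e) ^ k)⁻¹)
      = (p * e) ^ k * ((p * e) * e) * (p * e)⁻¹ * ((p * e) ^ k)⁻¹ := by group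
    _ = (p * e) ^ k * (p * (p * e)⁻¹ * p) * (p⁻¹ * ((p * e) ^ k)⁻¹) := by rw [h]; group
    _ = (p * e) ^ k * (p * e) * ((p * e) ^ k * p) := by
      have e1 : p * (p * e)⁻¹ * p = p * e := by
        have := flip_pow hp he 1
        rw [pow_one] at this
        calc p * (p * e)⁻¹ * p = p * (p * (p * e) * p) * p := by rw [this]
          _ = (p * p) * (p * e) * (p * p) := by group
          _ = p * e := by rw [hp, one_mul, mul_one]
      rw [e1, ← flip_pow hp he k, inv_eq_of_mul_eq_one_right hp]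
      calc (p * e) ^ k * (p * e) * (p * (p * (p * e) ^ k * p))
          = (p * e) ^ k * (p * e) * ((p * p) * (p * e) ^ k * p) := by group
        _ = _ := by rw [hp, one_mul]
    _ = (p * e) ^ (2 * k + 1) * p := by
      rw [← mul_assoc, ← pow_succ, ← pow_add]
      congr 2
      omega

/-- Two involutions of `L`, not conjugate in `L`: an involution of `L` centralising both, whose product
with the first is conjugate in `L` to one of them. -/
theorem exists_mid {L : Subgroup G} {p e : G} (hpL : p ∈ L) (heL : e ∈ L) (hp : p * p = 1) (he : e * e = 1)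
    (hne : ∀ h ∈ L, h * p * h⁻¹ ≠ e) :
    ∃ v ∈ L, v * v = 1 ∧ v ≠ 1 ∧ Commute v p ∧ Commute v e ∧
      ∃ h ∈ L, v * p = h * p * h⁻¹ ∨ v * p = h * e * h⁻¹ := by
  have hr : p * e ∈ L := mul_mem hpL heL
  obtain ⟨m, hm | hm⟩ := Nat.even_or_odd' (orderOf (p * e))
  swap
  · exfalso
    refine hne _ (inv_mem (pow_mem hr (m + 1))) ?_
    have h1 : (p * e) ^ (2 * m + 1) = 1 := by rw [← hm, pow_orderOf_eq_one]
    have h2 := pow_conj' hp he m
    rw [h1, one_mul] at h2
    rw [inv_inv]
    calc ((p * e) ^ (m + 1))⁻¹ * p * (p * e) ^ (m + 1)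
        = ((p * e) ^ (m + 1))⁻¹ * ((p * e) ^ (m + 1) * e * ((p * e) ^ (m + 1))⁻¹) * (p * e) ^ (m + 1) := by
          rw [h2]
      _ = e := by group
  have hv1 : (p * e) ^ (2 * m) = 1 := by rw [← hm, pow_orderOf_eq_one]
  have hpos : 0 < m := by
    have := orderOf_pos (p * e)
    omega
  set v := (p * e) ^ m with hv
  have hvv : v * v = 1 := by rw [hv, ← pow_add, ← two_mul, hv1]
  have hvp : Commute v p := by
    have h := flip_pow hp he m
    rw [← hv, inv_eq_of_mul_eq_one_right hvv] at h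
    calc v * p = (p * v * p) * p := by rw [h]
      _ = p * v * (p * p) := by group
      _ = p * v := by rw [hp, mul_one]
  have hve : Commute v e := by
    have h : Commute v (p * e) := (Commute.self_pow _ m).symm
    have h2 := hvp.mul_right h
    rwa [← mul_assoc, hp, one_mul] at h2
  refine ⟨v, pow_mem hr m, hvv, fun h1 => ?_, hvp, hve, ?_⟩
  · have := orderOf_le_of_pow_eq_one hpos h1
    omega
  · obtain ⟨k, hk | hk⟩ := Nat.even_or_odd' m
    · exact ⟨_, pow_mem hr k, Or.inl (by rw [pow_conj hp he k, hv, hk])⟩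
    · exact ⟨_, pow_mem hr (k + 1), Or.inr (by rw [pow_conj' hp he k, hv, hk])⟩

end Cfsg.Agent.S3298Sp
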