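import Cfsg.Agent.Lib.S3298Sp.Model
import Cfsg.Agent.Lib.S3298Sp.OddNorm
import Cfsg.Agent.Lib.S3298Sp.Dihedral
import Cfsg.Agent.Lib.McLTwoA8.Isolated

/-!
S3298: a copy of `Sp₆(2)` containing the centraliser of a transvection and meeting its class in the
transvections only is the whole group.
-/

set_option autoImplicit false
set_option linter.style.haveILetI false
set_option linter.unusedSectionVars false

namespace Cfsg.Agent.S3298Sp

open Cfsg.Agent.S3342Id Cfsg.Agent.S3342Id.Closure Matrix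

/-- The hypotheses: an embedded `Sp₆(2)` with the centraliser and the class of a transvection. -/
structure Emb {G : Type*} [Group G] (θ : Sp62 →* G) : Prop where
  inj : Function.Injective θ
  cent : Subgroup.centralizer ({θ (T 1)} : Set G) ≤ θ.range
  cls : ∀ g : G, g * θ (T 1) * g⁻¹ ∈ θ.range → ∃ c < 64, c ≠ 0 ∧ g * θ (T 1) * g⁻¹ = θ (T c)

variable {G : Type*} [Group G] [Finite G] {θ : Sp62 →* G}

/-- The class of the transvection. -/
def InD (θ : Sp62 →* G) (e : G) : Prop := ∃ g : G, e = g * θ (T 1) * g⁻¹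

theorem InD.conj {e : G} (h : InD θ e) (g : G) : InD θ (g * e * g⁻¹) := by
  obtain ⟨k, rfl⟩ := h
  exact ⟨g * k, by group⟩

theorem InD.sq {e : G} (h : InD θ e) : e * e = 1 := by
  obtain ⟨k, rfl⟩ := h
  rw [show k * θ (T 1) * k⁻¹ * (k * θ (T 1) * k⁻¹) = k * (θ (T 1) * θ (T 1)) * k⁻¹ by group, ← map_mul, T_sq, map_one, mul_one, mul_inv_cancel]

theorem map_conj' (A B : Sp62) : θ (A * B * A⁻¹) = θ A * θ B * (θ A)⁻¹ := by rw [map_mul, map_mul, map_inv]

theorem exists_to {c : ℕ} (hc : c < 64) (c0 : c ≠ 0) : ∃ A : Sp62, A * T 1 * A⁻¹ = T c := by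
  rcases move_code.1 c hc c0 with rfl | h1 | ⟨d, hd, h1, h2⟩
  · exact ⟨1, by rw [one_mul, inv_one, mul_one]⟩
  · refine ⟨(T (c ^^^ 1))⁻¹, ?_⟩
    rw [← conj_T _ (step hc (by norm_num) h1)]
    group
  · refine ⟨(T (d ^^^ 1) * T (c ^^^ d))⁻¹, ?_⟩
    rw [← conj_T (T (d ^^^ 1) * T (c ^^^ d)) (c := c) (d := 1)
      (by rw [act_mul, step hc hd h1, step hd (by norm_num) h2])]
    group

theorem inD_T {c : ℕ} (hc : c < 64) (c0 : c ≠ 0) : InD θ (θ (T c)) := by
  obtain ⟨A, hA⟩ := exists_to hc c0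
  exact ⟨θ A, by rw [← map_conj', hA]⟩

variable (H : Emb θ)

include H

theorem code_of_inD {e : G} (he : InD θ e) (hM : e ∈ θ.range) : ∃ c < 64, c ≠ 0 ∧ e = θ (T c) := by
  obtain ⟨g, rfl⟩ := he
  exact H.cls g hM

/-- A conjugator of two class elements in the image lies in the image. -/
theorem unique' {d g : G} (hd : InD θ d) (hdM : d ∈ θ.range) (hgM : g * d * g⁻¹ ∈ θ.range) : g ∈ θ.range := by
  obtain ⟨a, ha, a0, rfl⟩ := code_of_inD H hd hdM
  obtain ⟨b, hb, b0, eb⟩ := code_of_inD H (hd.conj g) hgM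
  obtain ⟨A, hA⟩ := exists_to ha a0
  obtain ⟨B, hB⟩ := exists_to hb b0
  have hk : (θ B)⁻¹ * g * θ A ∈ θ.range := H.cent (Subgroup.mem_centralizer_singleton_iff.2 (by
    rw [← hA, map_conj'] at eb
    rw [← hB, map_conj'] at eb
    calc (θ B)⁻¹ * g * θ A * θ (T 1)
        = (θ B)⁻¹ * (g * (θ A * θ (T 1) * (θ A)⁻¹) * g⁻¹) * g * θ A := by group
      _ = θ (T 1) * ((θ B)⁻¹ * g * θ A) := by rw [eb]; group))
  rw [show g = θ B * ((θ B)⁻¹ * g * θ A) * (θ A)⁻¹ by group]
  exact mul_mem (mul_mem ⟨B, rfl⟩ hk) (inv_mem ⟨A, rfl⟩)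

theorem cent_T {c : ℕ} (hc : c < 64) (c0 : c ≠ 0) {g : G} (hg : Commute g (θ (T c))) : g ∈ θ.range :=
  unique' H (inD_T hc c0) ⟨_, rfl⟩ (by rw [hg.eq, mul_inv_cancel_right]; exact ⟨_, rfl⟩)

/-- The centraliser lies in the image. -/
def Cl (θ : Sp62 →* G) (w : Sp62) : Prop := ∀ g : G, Commute g (θ w) → g ∈ θ.range

omit H in
theorem Cl.conj {w : Sp62} (h : Cl θ w) (A : Sp62) : Cl θ (A * w * A⁻¹) := by
  intro g hg
  have hk : (θ A)⁻¹ * g * θ A ∈ θ.range := h _ (by
    have := (Commute.conj_iff (θ A)⁻¹).2 hg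
    rw [map_conj'] at this
    rw [inv_inv] at this
    rw [show (θ A)⁻¹ * g * θ A = (θ A)⁻¹ * g * θ A from rfl]
    convert this using 1
    group)
  rw [show g = θ A * ((θ A)⁻¹ * g * θ A) * (θ A)⁻¹ by group]
  exact mul_mem (mul_mem ⟨A, rfl⟩ hk) (inv_mem ⟨A, rfl⟩)

/-- The isolated transvection of a commuting pair. -/
theorem cl_y : Cl θ y := by
  set L := Subgroup.centralizer ({θ y} : Set G) with hL
  have hmem : ∀ c < 8, c ≠ 0 → θ (T c) ∈ L := fun c hc c0 =>
    Subgroup.mem_centralizer_singleton_iff.2 ((((low_comm hc (by norm_num) c0 (by norm_num)).mul_right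
      (low_comm hc (by norm_num) c0 (by norm_num))).map θ).eq)
  set p : L := ⟨θ (T 3), hmem 3 (by norm_num) (by norm_num)⟩
  have hp1 : θ (T 3) ≠ 1 := fun h => T_ne_one (by norm_num) (by norm_num) (H.inj (h.trans (map_one θ).symm))
  have hp : orderOf p = 2 := by
    refine orderOf_eq_prime (Subtype.ext ?_) fun e => hp1 (congrArg Subtype.val e)
    show ((p ^ 2 : L) : G) = 1
    rw [Subgroup.coe_pow, sq, ← map_mul, T_sq, map_one]
  have hiso : Cfsg.IsIsolated p := by
    intro g hg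
    have h1 : Commute ((g : G) * θ (T 3) * (g : G)⁻¹) (θ (T 3)) := (congrArg Subtype.val hg.eq).symm
    obtain ⟨A, hA⟩ := unique' H (inD_T (by norm_num) (by norm_num)) ⟨_, rfl⟩
      (cent_T H (by norm_num) (by norm_num) h1)
    have hAy : Commute A y := H.inj (by
      rw [map_mul, map_mul, hA]
      exact Subgroup.mem_centralizer_singleton_iff.1 g.2)
    refine Subtype.ext ?_
    show (g : G) * θ (T 3) * (g : G)⁻¹ = θ (T 3)
    rw [← hA, ← map_conj', conj_T A (fix_y hAy)]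
  have hsup := McLTwoA8.sup_oddCore_of_isolated p hp hiso
  set O := (Cfsg.oddCore L).map L.subtype with hO
  have hn : ∀ c < 8, c ≠ 0 → θ (T c) ∈ Subgroup.normalizer (O : Set G) := fun c hc c0 => by
    haveI : Fact (Nat.Prime 2) := ⟨Nat.prime_two⟩
    have hN : (Cfsg.oddCore L).Normal := FittingCores.pPrimeCore_normal 2
    exact Subgroup.le_normalizer_map L.subtype ⟨⟨_, hmem c hc c0⟩, by
      rw [Subgroup.normalizer_eq_top_iff.2 hN]; trivial, rfl⟩
  have hodd : Odd (Nat.card O) := by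
    haveI : Fact (Nat.Prime 2) := ⟨Nat.prime_two⟩
    rw [hO, Subgroup.card_map_of_injective L.subtype_injective]
    exact Nat.coprime_two_right.1 (FittingCores.pPrimeCore_coprime (G := L) 2)
  have hOM : O ≤ θ.range := le_of_septet hodd (t := fun i => θ (T (i + 1)))
    (fun i _ => by rw [← map_mul, T_sq, map_one])
    (fun i hi h => T_ne_one (by omega) (by omega) (H.inj (h.trans (map_one θ).symm)))
    (fun i hi k hk h => Nat.succ_injective (T_inj (by omega) (by omega) (H.inj h)))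
    (fun i hi k hk => (low_comm (by omega) (by omega) (by omega) (by omega)).map θ)
    (fun i hi => hn _ (by omega) (by omega))
    (by simp only [← map_mul]; rw [show (0 : ℕ) + 1 = 1 from rfl]; exact (congrArg θ septet).trans (map_one θ))
    (fun i hi g hg => cent_T H (c := i + 1) (by omega) (by omega)
      (Subgroup.mem_centralizer_singleton_iff.1 hg.2))
  intro g hg
  have hgL : g ∈ L := Subgroup.mem_centralizer_singleton_iff.2 hg.eq
  have : (⟨g, hgL⟩ : L) ∈ θ.range.subgroupOf L := by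
    refine (sup_le ?_ ?_ : _ ≤ θ.range.subgroupOf L) (hsup ▸ Subgroup.mem_top _)
    · intro q hq
      exact Subgroup.mem_subgroupOf.2 (cent_T H (c := 3) (by norm_num) (by norm_num)
        (congrArg Subtype.val (Subgroup.mem_centralizer_singleton_iff.1 hq)))
    · intro q hq
      exact Subgroup.mem_subgroupOf.2 (hOM ⟨q, hq, rfl⟩)
  exact Subgroup.mem_subgroupOf.1 this

theorem cl_pair {a b : ℕ} (ha : a < 64) (hb : b < 64) (a0 : a ≠ 0) (b0 : b ≠ 0) (hne : a ≠ b)
    (h : bc a b = false) : Cl θ (T a * T b) := by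
  obtain ⟨B, hB⟩ := exists_pair ha hb a0 b0 hne h
  rw [show T a * T b = B⁻¹ * y * B⁻¹⁻¹ by rw [← hB]; group]
  exact (cl_y H).conj B⁻¹

theorem side {w : Sp62} {p : ℕ} (hp : p < 64) (p0 : p ≠ 0) (hpw : Commute (T p) w) {e : G}
    (he : InD θ e) (hew : Commute e (θ w))
    (hne : ∀ h ∈ Subgroup.centralizer ({θ w} : Set G), h * θ (T p) * h⁻¹ ≠ e) : e ∈ θ.range := by
  obtain ⟨v, hvL, hvv, hv1, hvp, hve, h, hhL, hv⟩ := exists_mid (L := Subgroup.centralizer ({θ w} : Set G))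
    (Subgroup.mem_centralizer_singleton_iff.2 (hpw.map θ).eq) (Subgroup.mem_centralizer_singleton_iff.2 hew.eq)
    (by rw [← map_mul, T_sq, map_one]) he.sq hne
  have hvpD : InD θ (v * θ (T p)) := by
    rcases hv with e' | e' <;> rw [e']
    · exact (inD_T hp p0).conj h
    · exact he.conj h
  have hvM : v ∈ θ.range := cent_T H hp p0 hvp
  obtain ⟨d, hd, d0, hvd⟩ := code_of_inD H hvpD (mul_mem hvM ⟨_, rfl⟩)
  have hveq : v = θ (T d * T p) := by
    rw [map_mul, ← hvd, mul_assoc, ← map_mul, T_sq, map_one, mul_one]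
  have hdp : d ≠ p := fun e' => hv1 (by rw [hveq, e', T_sq, map_one])
  have hcd : Commute (T d) (T p) := H.inj (by
    rw [map_mul, map_mul, ← hvd]
    exact (hvp.mul_left (Commute.refl _)).eq)
  refine cl_pair H hd hp d0 p0 hdp ((commute_iff hd hp d0 p0).1 hcd) e ?_
  rw [← hveq]
  exact hve.symm

theorem cl_of_sides {w : Sp62} {p q : ℕ} (hp : p < 64) (p0 : p ≠ 0) (hpw : Commute (T p) w)
    (hq : q < 64) (q0 : q ≠ 0) (hqw : Commute (T q) w)
    (hinv : ∀ A : Sp62, Commute A w → A.1 *ᵥ sv p ≠ sv q) : Cl θ w := by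
  intro g hg
  refine unique' H (inD_T hp p0) ⟨_, rfl⟩ ?_
  set e := g * θ (T p) * g⁻¹
  have he : InD θ e := (inD_T hp p0).conj g
  have hew : Commute e (θ w) := (hg.mul_left (hpw.map θ)).mul_left hg.inv_left
  by_cases h : ∀ k ∈ Subgroup.centralizer ({θ w} : Set G), k * θ (T p) * k⁻¹ ≠ e
  · exact side H hp p0 hpw he hew h
  push Not at h
  obtain ⟨k, hk, hke⟩ := h
  refine side H hq q0 hqw he hew fun l hl hle => ?_
  have hconj : l⁻¹ * k * θ (T p) * (l⁻¹ * k)⁻¹ = θ (T q) := by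
    calc l⁻¹ * k * θ (T p) * (l⁻¹ * k)⁻¹ = l⁻¹ * (k * θ (T p) * k⁻¹) * l := by group
      _ = l⁻¹ * (l * θ (T q) * l⁻¹) * l := by rw [hke, hle]
      _ = θ (T q) := by group
  obtain ⟨A, hA⟩ := unique' H (inD_T hp p0) ⟨_, rfl⟩ (g := l⁻¹ * k) (by rw [hconj]; exact ⟨_, rfl⟩)
  refine hinv A (H.inj ?_) (act_eq_of_conj hq (H.inj ?_))
  · rw [map_mul, map_mul, hA]
    exact Subgroup.mem_centralizer_singleton_iff.1 (mul_mem (inv_mem hl) hk)
  · rw [map_conj', hA, hconj]

theorem commute_low {w : Sp62} {a c : ℕ} (hw : Rep w a) (hc : c < 64) (h : apc a c = c) : Commute (T c) w :=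
  (commute_of_fix hw hc h).symm

theorem cl_x : Cl θ x :=
  cl_of_sides H (p := 1) (q := 4) (by norm_num) (by norm_num)
    (commute_low H rep_x (by norm_num) (fixed_rep 1 (by norm_num)).2.1) (by norm_num) (by norm_num)
    (commute_low H rep_x (by norm_num) (fixed_rep 4 (by norm_num)).2.1) fun _ h => no_move_x h

theorem cl_z : Cl θ z :=
  cl_of_sides H (p := 7) (q := 1) (by norm_num) (by norm_num)
    (commute_low H rep_z (by norm_num) (fixed_rep 7 (by norm_num)).2.2) (by norm_num) (by norm_num)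
    (commute_low H rep_z (by norm_num) (fixed_rep 1 (by norm_num)).2.2) fun A h e => by
      rw [fix_z h] at e
      exact absurd (sv_inj 7 (by norm_num) 1 (by norm_num) e) (by norm_num)

/-- Every involution of the image has its centraliser there. -/
theorem cl_all {t : Sp62} (t2 : t * t = 1) (t1 : t ≠ 1) : Cl θ t := by
  obtain ⟨r, hr, B, rfl⟩ := exists_rep4 t2 t1
  refine Cl.conj ?_ B
  interval_cases r
  exacts [fun g hg => cent_T H (by norm_num) (by norm_num) hg, cl_y H, cl_x H, cl_z H]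

/-- The image is everything. -/
theorem range_eq_top : θ.range = ⊤ := by
  refine eq_top_iff.2 fun g _ => unique' H (inD_T (c := 1) (by norm_num) (by norm_num)) ⟨_, rfl⟩ ?_
  set e := g * θ (T 1) * g⁻¹
  have he : InD θ e := ⟨g, rfl⟩
  have hne : ∀ h ∈ (⊤ : Subgroup G), h * θ x * h⁻¹ ≠ e := by
    intro h _ heq
    have hx : InD θ (θ x) := by
      rw [show θ x = h⁻¹ * e * h⁻¹⁻¹ by rw [← heq]; group]
      exact he.conj h⁻¹
    obtain ⟨c, hc, -, ec⟩ := code_of_inD H hx ⟨_, rfl⟩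
    exact x_ne_T hc (H.inj ec)
  obtain ⟨v, -, hvv, hv1, hvx, hve, -⟩ := exists_mid (L := (⊤ : Subgroup G)) (Subgroup.mem_top (θ x))
    (Subgroup.mem_top e) (by rw [← map_mul, x_sq, map_one]) he.sq hne
  obtain ⟨t, rfl⟩ := cl_x H v hvx
  exact cl_all H (H.inj (by rw [map_mul, hvv, map_one])) (fun h1 => hv1 (by rw [h1, map_one])) e hve.symm

end Cfsg.Agent.S3298Sp
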