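import Cfsg.Agent.Lib.S3298Sp.Nodes
import Cfsg.Agent.Lib.S3298Sp.Pres
import Cfsg.Agent.Lib.S3298Sp.Closure
import Cfsg.Prelude.Def_Classical

/-!
S3298: the symplectic branch.
-/

set_option autoImplicit false
set_option linter.unusedSectionVars false
set_option maxRecDepth 100000

namespace Cfsg.Agent.S3298Sp

open SylClasses S3298Fus Cfsg.Agent.S3342Id Cfsg.Agent.S3342Id.Closure Matrix

variable {G : Type*} [Group G] [Finite G] {d : Dat G}

/-- The seven generators. -/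
def gam (d : Dat G) (c : ZMod 2) (g : G) (i : ℕ) : G :=
  if i < 6 then d.emb (R (six c i)) else if i = 6 then g else 1

theorem tg_T : ∀ i < 7, tg i = T (vc i) := fun _ _ => rfl

theorem vc_facts : ∀ i < 7, vc i < 64 ∧ vc i ≠ 0 := by decide +kernel

theorem tcd4 : ∀ u < 64, (∀ k < 5, bc u (2 ^ k) = bc 32 (2 ^ k)) → u = 32 ∨ u = 36 := by decide +kernel

theorem codes4 : pk (fun k => if k = 5 then 32 else 2 ^ k) = c1 ∧
    pk (fun k => if k = 5 then 36 else 2 ^ k) = tcd 4 := by decide +kernel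

/-- What commutes with the first six transvections. -/
theorem eq_T4 {A : Sp62} (h : ∀ i < 6, Commute A (tg i)) (h1 : A ≠ 1) : A = T 4 := by
  have hfix : ∀ i < 6, A.1 *ᵥ sv (vc i) = sv (vc i) := fun i hi => by
    refine act_eq_of_conj (vc_facts i (by omega)).1 ?_
    rw [← tg_T i (by omega), (h i hi).eq, mul_inv_cancel_right]
  have h4 : A.1 *ᵥ sv 4 = sv 4 := by
    have e : sv 4 = sv (vc 5) + sv (vc 0) := sv_xor 5 (by norm_num) 1 (by norm_num)
    rw [e, Matrix.mulVec_add, hfix 5 (by norm_num), hfix 0 (by norm_num)]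
  have hbasis : ∀ k < 5, A.1 *ᵥ sv (2 ^ k) = sv (2 ^ k) := by
    intro k hk
    interval_cases k
    exacts [hfix 0 (by norm_num), hfix 4 (by norm_num), h4, hfix 1 (by norm_num), hfix 3 (by norm_num)]
  obtain ⟨u, hu, eu⟩ := exists_code (A.1 *ᵥ sv 32)
  have hb : ∀ k, (if k = 5 then u else if k < 5 then 2 ^ k else 0) < 64 := fun k => by
    split_ifs with a b
    · exact hu
    · exact lt_of_lt_of_le (Nat.pow_lt_pow_right (by norm_num) b) (by norm_num)
    · norm_num
  have epk : pk (fun k => if k = 5 then u else 2 ^ k) = pk (fun k => if k = 5 then u else if k < 5 then 2 ^ k else 0) := by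
    simp [pk]
  have hA : Rep A (pk fun k => if k = 5 then u else 2 ^ k) := by
    rw [epk]
    refine ⟨pk_lt hb, fun k hk => ?_⟩
    rw [img_pk hb k hk]
    rcases eq_or_ne k 5 with rfl | hne
    · rw [if_pos rfl, show 2 ^ 5 = 32 from rfl, eu]
    · rw [if_neg hne, if_pos (by omega), hbasis k (by omega)]
  have hp : ∀ k < 5, bc u (2 ^ k) = bc 32 (2 ^ k) := fun k hk => by
    have hp2 : (2 : ℕ) ^ k < 64 := lt_of_lt_of_le (Nat.pow_lt_pow_right (by norm_num) hk) (by norm_num)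
    have h2 := form_act A (sv 32) (sv (2 ^ k))
    rw [← eu, hbasis k hk, form_bc u hu _ hp2, form_bc 32 (by norm_num) _ hp2] at h2
    revert h2
    cases bc u (2 ^ k) <;> cases bc 32 (2 ^ k) <;> simp
  rcases tcd4 u hu hp with rfl | rfl
  · exact absurd (eq_of_code hA rep_one codes4.1) h1
  · exact eq_of_code hA (rep_T (by norm_num)) codes4.2

theorem rep4_comm (r : ℕ) (h0 : 0 < r) (h : r < 4) : Commute (rep4 r) (T 4) := by
  have hy : Commute y (T 4) := (low_comm (c := 1) (d := 4) (by norm_num) (by norm_num) (by norm_num) (by norm_num)).mul_left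
    (low_comm (c := 2) (d := 4) (by norm_num) (by norm_num) (by norm_num) (by norm_num))
  have hx : Commute x (T 4) := by
    show Commute (y * T 3) (T 4)
    exact hy.mul_left (low_comm (c := 3) (d := 4) (by norm_num) (by norm_num) (by norm_num) (by norm_num))
  have hz : Commute z (T 4) := by
    show Commute (y * T 4) (T 4)
    exact hy.mul_left (Commute.refl _)
  interval_cases r
  exacts [hy, hx, hz]

/-- The copy of `Sp₆(2)`. -/
theorem exists_emb (hd : Good d) : ∃ θ : Sp62 →* G, Emb θ := by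
  obtain ⟨c, g, g2, gt, gco, g5⟩ := exists_node hd
  set γ := gam d c g with hγ
  have γ6 : γ 6 = g := rfl
  have γe : ∀ i < 6, γ i = d.emb (R (six c i)) := fun i hi => if_pos hi
  have hinv : ∀ i, γ i * γ i = 1 := fun i => by
    by_cases h1 : i < 6
    · rw [γe i h1, ← map_mul, R_sq, map_one]
    by_cases h2 : i = 6
    · rw [h2, γ6, g2]
    · show gam d c g i * gam d c g i = 1
      rw [gam, if_neg h1, if_neg h2, mul_one]
  have hbr : ∀ p ∈ edges, γ p.1 * γ p.2 * (γ p.1 * γ p.2) * (γ p.1 * γ p.2) = 1 := by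
    intro p hp
    have hcases : (p.1 < 6 ∧ p.2 < 6 ∧ p ∈ ([(0, 1), (1, 2), (2, 3), (3, 4), (1, 5)] : List (ℕ × ℕ))) ∨ p = (5, 6) :=
      (by decide : ∀ p ∈ edges, (p.1 < 6 ∧ p.2 < 6 ∧ p ∈ ([(0, 1), (1, 2), (2, 3), (3, 4), (1, 5)] : List (ℕ × ℕ))) ∨
        p = (5, 6)) p hp
    rcases hcases with ⟨h1, h2, h3⟩ | rfl
    · rw [γe _ h1, γe _ h2]
      exact braid_emb d (six_ok' c h1) (six_ok' c h2) (six_noncomm d c h1 h2 h3)
    · rw [γe 5 (by norm_num), γ6]; exact g5
  have hco : ∀ p ∈ nonedges, Commute (γ p.1) (γ p.2) := by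
    intro p hp
    have hcases : (p.1 < 6 ∧ p.2 < 6 ∧ p ∈ ([(0, 2), (0, 3), (0, 4), (0, 5), (1, 3), (1, 4), (2, 4), (2, 5), (3, 5),
        (4, 5)] : List (ℕ × ℕ))) ∨ (p.1 < 5 ∧ p.2 = 6) :=
      (by decide : ∀ p ∈ nonedges, (p.1 < 6 ∧ p.2 < 6 ∧ p ∈ ([(0, 2), (0, 3), (0, 4), (0, 5), (1, 3), (1, 4), (2, 4),
        (2, 5), (3, 5), (4, 5)] : List (ℕ × ℕ))) ∨ (p.1 < 5 ∧ p.2 = 6)) p hp
    rcases hcases with ⟨h1, h2, h3⟩ | ⟨h1, h2⟩
    · rw [γe _ h1, γe _ h2]
      exact six_commute d c h1 h2 h3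
    · rw [h2, γe _ (by omega), γ6]
      exact (gco _ h1).symm
  have hall : ∀ K : Subgroup G, (∀ i < 6, γ i ∈ K) → d.emb.range ≤ K := by
    rintro K hK _ ⟨a, rfl⟩
    have : K.comap d.emb = ⊤ := eq_top_of_six c fun n hn => Subgroup.mem_comap.2 (γe n hn ▸ hK n hn)
    exact Subgroup.mem_comap.1 (this ▸ Subgroup.mem_top a)
  have hcen : ∀ w : G, (∀ i < 7, Commute w (γ i)) → w = 1 := by
    intro w hw
    have hrange : d.emb.range ≤ Subgroup.centralizer ({w} : Set G) := hall _ fun i hi =>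
      Subgroup.mem_centralizer_singleton_iff.2 (hw i (by omega)).eq.symm
    have hwt : w * d.t = d.t * w := (Subgroup.mem_centralizer_singleton_iff.1 (hrange ⟨z0, rfl⟩)).symm
    obtain ⟨s, rfl⟩ := d.mem_range hwt
    rcases center_W0 (w := s) (fun r hr => ((commute_emb d).1
      (show Commute (d.emb s) (d.emb (R r)) from
        (Subgroup.mem_centralizer_singleton_iff.1 (hrange ⟨R r, rfl⟩)).symm))) with h | h
    · rw [h, map_one]
    · exact absurd (by rw [h] at hw; exact (γ6 ▸ hw 6 (by norm_num)).symm) gt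
  obtain ⟨θ, hθ⟩ := exists_hom_sp62 γ hinv (base_of_diagram hinv hbr hco hcen)
  have hne : γ 0 ≠ 1 := by
    rw [γe 0 (by norm_num)]
    exact fun e => R_ne_one (six_ok' c (by norm_num)) (d.inj (e.trans (map_one d.emb).symm))
  have hinj : Function.Injective θ := by
    haveI := isSimpleGroup_sp62
    rw [← MonoidHom.ker_eq_bot_iff]
    refine (IsSimpleGroup.eq_bot_or_eq_top_of_normal θ.ker inferInstance).resolve_right fun h => hne ?_
    rw [← hθ 0 (by norm_num), ← MonoidHom.mem_ker, h]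
    trivial
  have hC : d.emb.range ≤ θ.range := hall _ fun i hi => ⟨tg i, hθ i (by omega)⟩
  obtain ⟨A, hA⟩ := hC ⟨z0, rfl⟩
  have hA4 : A = T 4 := by
    refine eq_T4 (fun i hi => hinj ?_) fun e => d.t_ne_one ?_
    · rw [map_mul, map_mul, hA, hθ i (by omega), γe i hi]
      exact (commute_t d _).eq.symm
    · rw [e, map_one] at hA
      exact hA.symm
  subst hA4
  replace hA : θ (T 4) = d.t := hA
  obtain ⟨B, hB⟩ := exists_to (c := 4) (by norm_num) (by norm_num)
  have hBt : θ B * θ (T 1) * (θ B)⁻¹ = d.t := by rw [← map_conj', hB, hA]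
  have h10 : θ (T 1) = d.emb (R (six c 0)) := by
    rw [← γe 0 (by norm_num), ← hθ 0 (by norm_num)]
    rfl
  refine ⟨θ, hinj, ?_, ?_⟩
  · intro y hy
    have h : θ B * y * (θ B)⁻¹ ∈ θ.range := by
      refine hC ?_
      rw [d.range]
      refine Subgroup.mem_centralizer_singleton_iff.2 ?_
      show Commute (θ B * y * (θ B)⁻¹) d.t
      rw [← hBt]
      exact (Commute.conj_iff (θ B)).2 (Subgroup.mem_centralizer_singleton_iff.1 hy)
    rw [show y = (θ B)⁻¹ * (θ B * y * (θ B)⁻¹) * θ B by group]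
    exact mul_mem (mul_mem (inv_mem ⟨B, rfl⟩) h) ⟨B, rfl⟩
  · intro m hy
    obtain ⟨U, hU⟩ := hy
    have hUinv : U * U = 1 := hinj (by
      rw [map_mul, map_one, hU, show m * θ (T 1) * m⁻¹ * (m * θ (T 1) * m⁻¹) = m * (θ (T 1) * θ (T 1)) * m⁻¹ by group,
        ← map_mul, T_sq, map_one, mul_one, mul_inv_cancel])
    have hU1 : U ≠ 1 := fun e => T_ne_one (c := 1) (by norm_num) (by norm_num) (hinj (by
      rw [e, map_one] at hU
      rw [map_one]
      exact conj_eq_one_iff.1 hU.symm))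
    obtain ⟨r, hr, E, rfl⟩ := exists_rep4 hUinv hU1
    -- the representative is a transvection
    obtain ⟨a, ha, ea⟩ : ∃ a < 64, rep4 r = T a := by
      rcases Nat.eq_zero_or_pos r with rfl | hpos
      · exact ⟨1, by norm_num, rfl⟩
      have hc4 : Commute (rep4 r) (T 4) := rep4_comm r hpos hr
      have hcl : Conj' d.t (θ (rep4 r)) := by
        have h1 : Conj' d.t (θ (T 1)) := Conj'.symm (t := θ (T 1)) ⟨θ B, hBt⟩
        refine h1.trans ⟨(θ E)⁻¹ * m, ?_⟩
        rw [map_conj'] at hU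
        calc (θ E)⁻¹ * m * θ (T 1) * ((θ E)⁻¹ * m)⁻¹ = (θ E)⁻¹ * (m * θ (T 1) * m⁻¹) * θ E := by group
          _ = θ (rep4 r) := by rw [← hU]; group
      by_cases h4 : θ (rep4 r) = d.t
      · exact ⟨4, by norm_num, hinj (h4.trans hA.symm)⟩
      obtain ⟨s, hs, es⟩ := classify hd hcl (hA ▸ hc4.map θ) h4
      obtain ⟨w, hw⟩ := exists_conj_R c hs
      obtain ⟨W', hW'⟩ := hC ⟨w, rfl⟩
      obtain ⟨a, ha, ea⟩ := exists_code (W'.1 *ᵥ sv 1)
      refine ⟨a, ha, hinj ?_⟩
      rw [es, ← hw, map_mul, map_mul, map_inv, ← h10, ← hW', ← map_conj', conj_T W' ea.symm]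
    obtain ⟨b, hb, eb⟩ := exists_code (E.1 *ᵥ sv a)
    have e2 : E * rep4 r * E⁻¹ = T b := by rw [ea, conj_T E eb.symm]
    refine ⟨b, hb, fun h0 => hU1 ?_, by rw [← hU, e2]⟩
    rw [e2, h0, T_zero]

/-- The symplectic branch. -/
theorem nonempty_iso (hd : Good d) {F : Type} [Field F] [Fintype F] (hF : Fintype.card F = 2) :
    Nonempty (G ≃* Cfsg.PSp 3 F) := by
  obtain ⟨θ, hθ⟩ := exists_emb hd
  obtain ⟨f⟩ : Nonempty (ZMod 2 ≃+* F) := ⟨FiniteField.ringEquivOfCardEq ((ZMod.card 2).trans hF.symm)⟩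
  have hz : Subgroup.center (symplecticGroup (Fin 3) F) = ⊥ := by
    rw [← Subgroup.card_eq_one, ClassicalSp.card_center_sp (by norm_num), Nat.card_eq_fintype_card, hF]
    rfl
  exact ⟨(MulEquiv.ofBijective θ ⟨hθ.inj, MonoidHom.range_eq_top.1 (range_eq_top hθ)⟩).symm.trans
    ((sp62Congr f).trans ((QuotientGroup.quotientMulEquivOfEq hz).trans QuotientGroup.quotientBot).symm)⟩

end Cfsg.Agent.S3298Sp
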