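import Cfsg.Agent.Lib.S3298Sp.W0Facts

/-!
S3298: the centralisers of the conjugates of the involution as copies of the signed permutations.
-/

set_option autoImplicit false
set_option linter.unusedSectionVars false
set_option maxRecDepth 100000

namespace Cfsg.Agent.S3298Sp

open SylClasses S3298Fus

variable {G : Type*} [Group G]

/-- The class in the centraliser: the all-flip and the roots. -/
def Good (d : Dat G) : Prop := ∀ a, d.Fused a ↔ a = z0 ∨ ∃ i j b, i ≠ j ∧ a.1 = root i j b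

/-- Conjugates of `t`. -/
def Conj' (t e : G) : Prop := ∃ g, g * t * g⁻¹ = e

theorem Conj'.symm {t e : G} (h : Conj' t e) : Conj' e t := by
  obtain ⟨g, rfl⟩ := h
  exact ⟨g⁻¹, by group⟩

theorem Conj'.trans {a b c : G} (h : Conj' a b) (h' : Conj' b c) : Conj' a c := by
  obtain ⟨g, rfl⟩ := h
  obtain ⟨k, rfl⟩ := h'
  exact ⟨k * g, by group⟩

theorem conj_root {d : Dat G} (hd : Good d) {r : Rt} (hr : r.ok) : Conj' d.t (d.emb (R r)) :=
  (hd (R r)).2 (Or.inr ⟨r.1, r.2.1, r.2.2, hr, R_val hr⟩)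

/-- A conjugate of the involution commuting with it is a root. -/
theorem classify {d : Dat G} (hd : Good d) {e : G} (he : Conj' d.t e) (hc : Commute e d.t) (hne : e ≠ d.t) :
    ∃ r : Rt, r.ok ∧ e = d.emb (R r) := by
  obtain ⟨a, ha⟩ := d.mem_range hc.eq
  obtain ⟨g, hg⟩ := he
  rcases (hd a).1 ⟨g, hg.trans ha.symm⟩ with h | ⟨i, j, b, hij, h⟩
  · exact absurd (by rw [← ha, h]) hne
  · exact ⟨(i, j, b), hij, by rw [← ha, show a = R (i, j, b) from Subtype.ext (by rw [h, R_val (r := (i, j, b)) hij]; rfl)]⟩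

theorem commute_emb (d : Dat G) {a b : ↥W0} : Commute (d.emb a) (d.emb b) ↔ Commute a b :=
  ⟨fun h => d.inj (by rw [map_mul, map_mul]; exact h.eq), fun h => h.map d.emb⟩

theorem commute_t (d : Dat G) (a : ↥W0) : Commute (d.emb a) d.t :=
  (commute_emb d).2 (z0_comm a)

/-- Every conjugate of the involution has its own frame. -/
theorem exists_frame {d : Dat G} (hd : Good d) {e : G} (he : Conj' d.t e) :
    ∃ d' : Dat G, d'.t = e ∧ Good d' := by
  obtain ⟨g, rfl⟩ := he
  let f : ↥W0 →* G := (MulAut.conj g).toMonoidHom.comp d.emb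
  have hf : ∀ a, f a = g * d.emb a * g⁻¹ := fun a => rfl
  have hrange : f.range = Subgroup.centralizer ({f z0} : Set G) := by
    refine le_antisymm ?_ fun y hy => ?_
    · rintro _ ⟨a, rfl⟩
      exact Subgroup.mem_centralizer_singleton_iff.2 (by
        rw [← map_mul, ← map_mul]
        exact congrArg f (z0_comm a))
    · have h := Subgroup.mem_centralizer_singleton_iff.1 hy
      rw [hf] at h
      obtain ⟨s, hs⟩ := d.mem_range (y := g⁻¹ * y * g) (by
        calc g⁻¹ * y * g * d.t = g⁻¹ * (y * (g * d.emb z0 * g⁻¹)) * g := by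
              show g⁻¹ * y * g * d.emb z0 = _
              group
          _ = d.t * (g⁻¹ * y * g) := by
              show _ = d.emb z0 * _
              rw [h]; group)
      exact ⟨s, by rw [hf, hs]; group⟩
  refine ⟨⟨f, (MulAut.conj g).injective.comp d.inj, hrange⟩, rfl, fun a => ?_⟩
  rw [← hd a]
  constructor
  · rintro ⟨k, hk⟩
    replace hk : k * (g * d.emb z0 * g⁻¹) * k⁻¹ = g * d.emb a * g⁻¹ := hk
    refine ⟨g⁻¹ * k * g, ?_⟩
    calc g⁻¹ * k * g * d.emb z0 * (g⁻¹ * k * g)⁻¹ = g⁻¹ * (k * (g * d.emb z0 * g⁻¹) * k⁻¹) * g := by group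
      _ = d.emb a := by rw [hk]; group
  · rintro ⟨k, hk⟩
    refine ⟨g * k * g⁻¹, ?_⟩
    show g * k * g⁻¹ * (g * d.emb z0 * g⁻¹) * (g * k * g⁻¹)⁻¹ = g * d.emb a * g⁻¹
    rw [← hk]
    show _ = g * (k * d.emb z0 * k⁻¹) * g⁻¹
    group

theorem two_signs : ∀ b c : ZMod 2, b ≠ c → c = b + 1 := by decide

theorem bar_sign : ∀ b : ZMod 2, b + 1 ≠ b := by decide

theorem R_bar_ne {r : Rt} (hr : r.ok) : R r.bar ≠ R r := fun e =>
  bar_sign r.2.2 ((R_eq_iff ((same_bar r).2.2 hr) hr).1 e).2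

/-- Partners do not depend on the side. -/
theorem partner_symm {d d' : Dat G} (hd : Good d) (hd' : Good d') {r r' : Rt} (hr : r.ok) (hr' : r'.ok)
    (e1 : d'.t = d.emb (R r)) (e2 : d.t = d'.emb (R r')) : d'.emb (R r'.bar) = d.emb (R r.bar) := by
  have hrb := (same_bar r).2.2 hr
  set q := d.emb (R r.bar)
  have hq : Conj' d'.t q := ((e1 ▸ conj_root hd hr : Conj' d.t d'.t).symm).trans (conj_root hd hrb)
  have hqc : Commute q d'.t := e1 ▸ (commute_emb d).2 ((commute_R hrb hr).2 (Or.inl (by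
    rcases r with ⟨i, j, b⟩; exact Or.inl ⟨rfl, rfl⟩)))
  have hqne : q ≠ d'.t := fun e => R_bar_ne hr (d.inj (e.trans e1))
  obtain ⟨s, hs, eq⟩ := classify hd' hq hqc hqne
  have hsame : r'.same s := same_of_central hr' hs fun u hu => by
    obtain ⟨w, hw⟩ := d.mem_range (y := d'.emb u) (by
      rw [e2]; exact ((commute_emb d').2 hu).eq)
    have hwr : Commute w (R r) := (commute_emb d).1 (by rw [hw, ← e1]; exact commute_t d' u)
    refine (commute_emb d').1 ?_
    rw [← hw, ← eq]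
    exact (commute_emb d).2 (commute_bar hr hwr)
  have hsign : r'.2.2 ≠ s.2.2 := fun e => by
    have hqt : q = d.t := by rw [eq, e2, (R_eq_iff hr' hs).2 ⟨hsame, e⟩]
    exact R_ne_z0 hrb (d.inj hqt)
  rw [eq, show R r'.bar = R s from (R_eq_iff ((same_bar r').2.2 hr') hs).2 ⟨hsame, (two_signs _ _ hsign).symm⟩]

/-- Commuting with a root, and neither it nor its partner: no common point. -/
theorem apart_of {d : Dat G} {r s : Rt} (hr : r.ok) (hs : s.ok) (hc : Commute (d.emb (R r)) (d.emb (R s)))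
    (h1 : d.emb (R s) ≠ d.emb (R r)) (h2 : d.emb (R s) ≠ d.emb (R r.bar)) : r.apart s := by
  refine ((commute_R hr hs).1 ((commute_emb d).1 hc)).resolve_left fun hsame => ?_
  by_cases e : r.2.2 = s.2.2
  · exact h1 (congrArg d.emb ((R_eq_iff hr hs).2 ⟨hsame, e⟩).symm)
  · exact h2 (congrArg d.emb ((R_eq_iff ((same_bar r).2.2 hr) hs).2 ⟨hsame, (two_signs _ _ e).symm⟩).symm)

theorem adjust_points : ∀ i j : Fin 6, i ≠ j → ∀ k l : Fin 6, k ≠ l →
    ¬ Rt.same (i, j, 0) (k, l, 0) → ¬ Rt.apart (i, j, 0) (k, l, 0) → ∀ m n : Fin 6, m ≠ n →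
      ¬ Rt.apart (i, j, 0) (m, n, 0) → ¬ Rt.apart (k, l, 0) (m, n, 0) →
      ¬ Rt.same (i, j, 0) (m, n, 0) → ¬ Rt.same (k, l, 0) (m, n, 0) →
      Rt.same (Equiv.swap i j k, Equiv.swap i j l, 0) (m, n, 0) ∨
        Rt.apart (Equiv.swap i j k, Equiv.swap i j l, 0) (m, n, 0) := by decide +kernel

/-- Three pairwise non-commuting roots: the conjugate of one by the first commutes with the other. -/
theorem adjust {s g w : Rt} (hs : s.ok) (hg : g.ok) (hw : w.ok) (h1 : ¬ Commute (R s) (R g))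
    (h2 : ¬ Commute (R s) (R w)) (h3 : ¬ Commute (R g) (R w)) :
    Commute (R s * R g * (R s)⁻¹) (R w) := by
  obtain ⟨i, j, a⟩ := s
  obtain ⟨k, l, b⟩ := g
  obtain ⟨m, n, c⟩ := w
  rw [commute_R hs hg, not_or] at h1
  rw [commute_R hs hw, not_or] at h2
  rw [commute_R hg hw, not_or] at h3
  have hp := adjust_points i j hs k l hg h1.1 h1.2 m n hw h2.2 h3.2 h2.1 h3.1
  have hne : Equiv.swap i j k ≠ Equiv.swap i j l := fun e => hg ((Equiv.swap i j).injective e)
  have e : ∃ b', R (i, j, a) * R (k, l, b) * (R (i, j, a))⁻¹ = R (Equiv.swap i j k, Equiv.swap i j l, b') := by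
    refine ⟨b + (rw6 (i, j, a)).v (Equiv.swap i j k) + (rw6 (i, j, a)).v (Equiv.swap i j l), Subtype.ext ?_⟩
    rw [Subgroup.coe_mul, Subgroup.coe_mul, Subgroup.coe_inv, R_val hs, R_val hg,
      R_val (show Rt.ok (Equiv.swap i j k, Equiv.swap i j l, _) from hne)]
    exact rw6_conj _ _ _ _ hg
  obtain ⟨b', e⟩ := e
  rw [e, commute_R (show Rt.ok (Equiv.swap i j k, Equiv.swap i j l, b') from hne) hw]
  exact hp

end Cfsg.Agent.S3298Sp
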