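import Cfsg.Agent.Lib.S3298Sp.Frames

/-!
S3298: the seventh node.
-/

set_option autoImplicit false
set_option linter.unusedSectionVars false
set_option maxRecDepth 100000

namespace Cfsg.Agent.S3298Sp

open SylClasses S3298Fus

variable {G : Type*} [Group G]

theorem pin01 : ∀ r : Rt, r.ok → Rt.apart r (4, 5, 1) → Rt.apart r (2, 3, 0) → Rt.same r (0, 1, r.2.2) := by
  decide +kernel

theorem six_pairs : ∀ c : ZMod 2, ∀ p ∈ ([(0, 2), (0, 3), (0, 4), (0, 5), (1, 3), (1, 4), (2, 4), (2, 5), (3, 5),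
    (4, 5)] : List (ℕ × ℕ)), Rt.same (six c p.1) (six c p.2) ∨ Rt.apart (six c p.1) (six c p.2) := by
  decide +kernel

theorem six_edges : ∀ c : ZMod 2, ∀ p ∈ ([(0, 1), (1, 2), (2, 3), (3, 4), (1, 5)] : List (ℕ × ℕ)),
    ¬ Rt.same (six c p.1) (six c p.2) ∧ ¬ Rt.apart (six c p.1) (six c p.2) := by decide +kernel

theorem six_ok' (c : ZMod 2) {n : ℕ} (h : n < 6) : (six c n).ok := six_ok c ⟨n, h⟩

theorem six_commute (d : Dat G) (c : ZMod 2) {p q : ℕ} (hp : p < 6) (hq : q < 6)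
    (h : (p, q) ∈ ([(0, 2), (0, 3), (0, 4), (0, 5), (1, 3), (1, 4), (2, 4), (2, 5), (3, 5),
      (4, 5)] : List (ℕ × ℕ))) : Commute (d.emb (R (six c p))) (d.emb (R (six c q))) :=
  (commute_emb d).2 ((commute_R (six_ok' c hp) (six_ok' c hq)).2 (six_pairs c (p, q) h))

theorem six_noncomm (d : Dat G) (c : ZMod 2) {p q : ℕ} (hp : p < 6) (hq : q < 6)
    (h : (p, q) ∈ ([(0, 1), (1, 2), (2, 3), (3, 4), (1, 5)] : List (ℕ × ℕ))) :
    ¬ Commute (d.emb (R (six c p))) (d.emb (R (six c q))) := fun e => by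
  obtain ⟨h1, h2⟩ := six_edges c (p, q) h
  exact ((commute_R (six_ok' c hp) (six_ok' c hq)).1 ((commute_emb d).1 e)).elim h1 h2

theorem emb_ne (d : Dat G) {r s : Rt} (hr : r.ok) (hs : s.ok) (h : ¬ (r.same s ∧ r.2.2 = s.2.2)) :
    d.emb (R r) ≠ d.emb (R s) := fun e => h ((R_eq_iff hr hs).1 (d.inj e))

theorem braid_emb (d : Dat G) {r s : Rt} (hr : r.ok) (hs : s.ok)
    (h : ¬ Commute (d.emb (R r)) (d.emb (R s))) :
    d.emb (R r) * d.emb (R s) * (d.emb (R r) * d.emb (R s)) * (d.emb (R r) * d.emb (R s)) = 1 := by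
  simp only [← map_mul]
  rw [braid_R hr hs (fun e => h ((commute_emb d).2 e)), map_one]

variable {d : Dat G} (hd : Good d)

include hd

/-- The end root chosen by the frame of the other end, and a node beyond it. -/
theorem exists_node : ∃ (c : ZMod 2) (g : G), g * g = 1 ∧ ¬ Commute g d.t ∧
    (∀ n < 5, Commute g (d.emb (R (six c n)))) ∧
    d.emb (R (six c 5)) * g * (d.emb (R (six c 5)) * g) * (d.emb (R (six c 5)) * g) = 1 := by
  have o0 : Rt.ok (4, 5, 1) := by decide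
  have o2 : Rt.ok (2, 3, 0) := by decide
  have o3 : Rt.ok (1, 2, 0) := by decide
  have o5 : Rt.ok (4, 5, 0) := by decide
  set a2 := d.emb (R (4, 5, 1)) with ha2
  set a5 := d.emb (R (2, 3, 0)) with ha5
  set a6 := d.emb (R (1, 2, 0)) with ha6
  set a3 := d.emb (R (4, 5, 0)) with ha3
  have c02 : Commute a5 a2 := (six_commute d 0 (p := 0) (q := 2) (by norm_num) (by norm_num) (by simp)).symm
  have c03 : Commute a6 a2 := (six_commute d 0 (p := 0) (q := 3) (by norm_num) (by norm_num) (by simp)).symm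
  -- the frame at the first root
  obtain ⟨d2, t2, hd2⟩ := exists_frame hd (conj_root hd o0)
  obtain ⟨r1, hr1, e1⟩ := classify hd2 (t2 ▸ (conj_root hd o0).symm) (t2 ▸ (commute_t d _).symm)
    (fun e => R_ne_z0 o0 (d.inj (t2 ▸ e.symm : d.emb (R (4, 5, 1)) = d.t)))
  have e1b : d2.emb (R r1.bar) = a3 := by
    rw [partner_symm hd hd2 o0 hr1 t2 e1, ha3]
    rfl
  have hr1b := (same_bar r1).2.2 hr1
  have cl2 : ∀ r : Rt, r.ok → Conj' d2.t (d.emb (R r)) := fun r hr =>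
    (t2 ▸ (conj_root hd o0).symm : Conj' d2.t d.t).trans (conj_root hd hr)
  have back : ∀ r : Rt, r.ok → Conj' d.t (d2.emb (R r)) := fun r hr =>
    (t2 ▸ conj_root hd o0 : Conj' d.t d2.t).trans (conj_root hd2 hr)
  obtain ⟨s5, hs5, e5⟩ := classify hd2 (cl2 _ o2) (t2 ▸ c02) (t2 ▸ emb_ne d o2 o0 (by decide))
  obtain ⟨s6, hs6, e6⟩ := classify hd2 (cl2 _ o3) (t2 ▸ c03) (t2 ▸ emb_ne d o3 o0 (by decide))
  have ap15 : r1.apart s5 := apart_of hr1 hs5 (by rw [← e1, ← e5]; exact (commute_t d _).symm)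
    (by rw [← e1, ← e5]; exact fun e => R_ne_z0 o2 (d.inj e))
    (by rw [e1b, ← e5]; exact emb_ne d o2 o5 (by decide))
  have ap16 : r1.apart s6 := apart_of hr1 hs6 (by rw [← e1, ← e6]; exact (commute_t d _).symm)
    (by rw [← e1, ← e6]; exact fun e => R_ne_z0 o3 (d.inj e))
    (by rw [e1b, ← e6]; exact emb_ne d o3 o5 (by decide))
  have n56 : ¬ s5.same s6 ∧ ¬ s5.apart s6 := not_or.1 fun h => six_noncomm d 0 (p := 2) (q := 3) (by norm_num)
    (by norm_num) (by simp) (by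
      show Commute a5 a6
      rw [ha5, ha6, e5, e6]
      exact (commute_emb d2).2 ((commute_R hs5 hs6).2 h))
  -- the end root
  have hs5b := (same_bar s5).2.2 hs5
  set q := d2.emb (R s5.bar) with hq
  have qt : Commute q d.t := by
    rw [hq, e1]
    refine (commute_emb d2).2 ((commute_R hs5b hr1).2 (Or.inr ?_))
    exact ⟨ap15.1.symm, ap15.2.2.1.symm, ap15.2.1.symm, ap15.2.2.2.symm⟩
  have qne : q ≠ d.t := by
    rw [hq, e1]
    intro e
    obtain ⟨hsame, -⟩ := (R_eq_iff hs5b hr1).1 (d2.inj e)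
    rcases hsame with ⟨h, -⟩ | ⟨h, -⟩
    · exact ap15.1 h.symm
    · exact ap15.2.2.1 h.symm
  obtain ⟨u, hu, eu⟩ := classify hd (back _ hs5b) qt qne
  have qa2 : Commute q a2 := by rw [hq, ha2, ← t2]; exact commute_t d2 _
  have qa5 : Commute q a5 := by
    rw [hq, ha5, e5]
    exact (commute_emb d2).2 ((commute_R hs5b hs5).2 (Or.inl (Or.inl ⟨rfl, rfl⟩)))
  have qnea5 : q ≠ a5 := by
    rw [hq, ha5, e5]
    exact fun e => R_bar_ne hs5 (d2.inj e)
  have uapart0 : Rt.apart (4, 5, 1) u := apart_of o0 hu (by rw [← eu]; exact qa2.symm)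
    (by rw [← eu, ← t2]; exact fun e => R_ne_z0 hs5b (d2.inj e))
    (by
      rw [← eu, show Rt.bar (4, 5, 1) = (4, 5, 0) from rfl, ← ha3, ← e1b]
      intro e
      obtain ⟨hsame, -⟩ := (R_eq_iff hs5b hr1b).1 (d2.inj e)
      rcases hsame with ⟨h, -⟩ | ⟨h, -⟩
      · exact ap15.1 h.symm
      · exact ap15.2.2.1 h.symm)
  have uapart2 : Rt.apart (2, 3, 0) u := apart_of o2 hu (by rw [← eu]; exact qa5.symm)
    (by rw [← eu]; exact qnea5)
    (by
      rw [← eu]
      intro e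
      obtain ⟨d5, t5, hd5⟩ := exists_frame hd (conj_root hd o2)
      obtain ⟨v, hv, ev⟩ := classify hd5 (t5 ▸ (conj_root hd o2).symm) (t5 ▸ (commute_t d _).symm)
        (fun h => R_ne_z0 o2 (d.inj (t5 ▸ h.symm : d.emb (R (2, 3, 0)) = d.t)))
      obtain ⟨v2, hv2, ev2⟩ := classify hd5 ((t5 ▸ (conj_root hd o2).symm : Conj' d5.t d.t).trans (conj_root hd o0))
        (t5 ▸ c02.symm) (t5 ▸ emb_ne d o0 o2 (by decide))
      have k1 : d5.emb (R v.bar) = d.emb (R (Rt.bar (2, 3, 0))) := partner_symm hd hd5 o2 hv t5 ev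
      have k2 : d5.emb (R v2.bar) = q := by
        rw [partner_symm hd2 hd5 hs5 hv2 (t5.trans e5) (t2.trans ev2)]
      replace k2 := k2.trans (e.trans k1.symm)
      obtain ⟨hsame, hsign⟩ := (R_eq_iff ((same_bar v).2.2 hv) ((same_bar v2).2.2 hv2)).1 (d5.inj k2.symm)
      have : d.t = d.emb (R (4, 5, 1)) := by
        rw [ev, ev2, (R_eq_iff hv hv2).2 ⟨hsame, add_right_cancel hsign⟩]
      exact R_ne_z0 o0 (d.inj this.symm))
  have usame := pin01 u hu ⟨uapart0.1.symm, uapart0.2.2.1.symm, uapart0.2.1.symm, uapart0.2.2.2.symm⟩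
    ⟨uapart2.1.symm, uapart2.2.2.1.symm, uapart2.2.1.symm, uapart2.2.2.2.symm⟩
  set c := u.2.2 with hc
  have o4 : Rt.ok (0, 1, c) := by simp [Rt.ok]
  have eq7 : q = d.emb (R (0, 1, c)) := (hq.trans eu).trans (congrArg d.emb ((R_eq_iff hu o4).2 ⟨usame, rfl⟩))
  -- a node beyond the first root
  obtain ⟨o, ho, ga5, ga6, gns, gna⟩ := fifth r1 s5 s6 ap15 ap16 n56.1 n56.2
  set G0 : Rt := (r1.1, o, 0) with hG0
  have oG : G0.ok := ho
  set g0 := d2.emb (R G0) with hg0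
  have g2 : Commute g0 a2 := by rw [hg0, ha2, ← t2]; exact commute_t d2 _
  have g5 : Commute g0 a5 := by rw [hg0, ha5, e5]; exact (commute_emb d2).2 ((commute_R oG hs5).2 (Or.inr ga5))
  have g6 : Commute g0 a6 := by rw [hg0, ha6, e6]; exact (commute_emb d2).2 ((commute_R oG hs6).2 (Or.inr ga6))
  have g7 : Commute g0 q := by rw [hg0, hq]; exact (commute_emb d2).2 ((commute_R oG hs5b).2 (Or.inr ga5))
  have gt : ¬ Commute g0 d.t := by
    rw [hg0, e1]
    exact fun h => ((commute_R oG hr1).1 ((commute_emb d2).1 h)).elim gns gna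
  have g3 : ¬ Commute g0 a3 := by
    rw [hg0, ← e1b]
    exact fun h => ((commute_R oG hr1b).1 ((commute_emb d2).1 h)).elim gns gna
  have g03 : a3 * g0 * (a3 * g0) * (a3 * g0) = 1 := by
    have h := g3
    rw [hg0, ← e1b] at h ⊢
    exact braid_emb d2 hr1b oG fun e => h e.symm
  have hg02 : g0 * g0 = 1 := by rw [hg0, ← map_mul, R_sq, map_one]
  have ha32 : a3 * a3 = 1 := by rw [ha3, ← map_mul, R_sq, map_one]
  -- the frame at the end root
  set a4 := d.emb (R (3, 4, 0)) with ha4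
  have o1 : Rt.ok (3, 4, 0) := by decide
  obtain ⟨d7, t7, hd7⟩ := exists_frame hd (eq7 ▸ conj_root hd o4 : Conj' d.t q)
  have cl7 : ∀ r : Rt, r.ok → Conj' d7.t (d.emb (R r)) := fun r hr =>
    (t7 ▸ (eq7 ▸ conj_root hd o4 : Conj' d.t q).symm : Conj' d7.t d.t).trans (conj_root hd hr)
  have k7 : ∀ p, p < 6 → (p, 4) ∈ ([(0, 2), (0, 3), (0, 4), (0, 5), (1, 3), (1, 4), (2, 4), (2, 5), (3, 5),
      (4, 5)] : List (ℕ × ℕ)) → Commute (d.emb (R (six c p))) d7.t := fun p hp h => by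
    rw [t7, eq7]
    exact six_commute d c hp (by norm_num) h
  obtain ⟨v, hv, ev⟩ := classify hd7 (t7 ▸ (eq7 ▸ conj_root hd o4 : Conj' d.t q).symm) (t7 ▸ qt.symm)
    (fun e => qne (t7 ▸ e.symm))
  obtain ⟨v3, hv3, ev3⟩ := classify hd7 (cl7 _ o5)
    (by rw [t7, eq7]; exact (six_commute d c (p := 4) (q := 5) (by norm_num) (by norm_num) (by simp)).symm)
    (by rw [t7, eq7]; exact emb_ne d o5 o4 (by rintro ⟨h, -⟩; revert h; simp [Rt.same]))
  obtain ⟨w2, hw2, ew2⟩ := classify hd7 (cl7 _ o0) (k7 0 (by norm_num) (by simp))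
    (by rw [t7, eq7]; exact emb_ne d o0 o4 (by rintro ⟨h, -⟩; revert h; simp [Rt.same]))
  obtain ⟨w5, hw5, ew5⟩ := classify hd7 (cl7 _ o2) (k7 2 (by norm_num) (by simp))
    (by rw [t7, eq7]; exact emb_ne d o2 o4 (by rintro ⟨h, -⟩; revert h; simp [Rt.same]))
  obtain ⟨w4, hw4, ew4⟩ := classify hd7 (cl7 _ o1) (k7 1 (by norm_num) (by simp))
    (by rw [t7, eq7]; exact emb_ne d o1 o4 (by rintro ⟨h, -⟩; revert h; simp [Rt.same]))
  obtain ⟨wg, hwg, ewg⟩ := classify hd7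
    ((t7 ▸ (eq7 ▸ conj_root hd o4 : Conj' d.t q).symm : Conj' d7.t d.t).trans (back _ oG)) (t7 ▸ g7)
    (fun e => gt (by rw [show g0 = q from t7 ▸ e]; exact qt))
  have w25 : w2.same w5 := by
    have k := partner_symm hd2 hd7 hs5b hw2 t7 (t2.trans ew2)
    rw [(same_bar s5).2.1, ← e5] at k
    replace k := k.trans ew5
    exact ((R_eq_iff ((same_bar w2).2.2 hw2) hw5).1 (d7.inj k)).1
  have vv3 : v.apart v3 := apart_of hv hv3 (by rw [← ev, ← ev3]; exact (commute_t d _).symm)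
    (by rw [← ev, ← ev3]; exact fun e => R_ne_z0 o5 (d.inj e))
    (by
      rw [← ev3, partner_symm hd hd7 o4 hv (t7.trans eq7) ev]
      exact emb_ne d o5 ((same_bar _).2.2 o4) (by rintro ⟨h, -⟩; revert h; simp [Rt.same, Rt.bar]))
  have n43 : ¬ Commute (d7.emb (R v3)) (d7.emb (R w4)) := by
    rw [← ev3, ← ew4]
    exact fun h => six_noncomm d c (p := 1) (q := 5) (by norm_num) (by norm_num) (by simp) h.symm
  by_cases hg4 : Commute g0 a4
  · refine ⟨c, g0, hg02, gt, fun n hn => ?_, g03⟩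
    interval_cases n
    exacts [g2, hg4, g5, g6, eq7 ▸ g7]
  -- move it
  have hmove : Commute (a3 * g0 * a3⁻¹) a4 := by
    have h := adjust hv3 hwg hw4 (fun h => g3 (by
        rw [hg0, ha3, ev3, ewg]
        exact ((commute_emb d7).2 h).symm))
      (fun h => n43 ((commute_emb d7).2 h))
      (fun h => hg4 (by rw [hg0, ha4, ew4, ewg]; exact (commute_emb d7).2 h))
    have h' := (commute_emb d7).2 h
    rw [map_mul, map_mul, map_inv, ← ev3, ← ewg, ← ew4] at h'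
    exact h'
  have fixc : ∀ x : G, Commute a3 x → Commute g0 x → Commute (a3 * g0 * a3⁻¹) x := fun x h1 h2 =>
    (h1.mul_left h2).mul_left h1.inv_left
  have gt' : ¬ Commute (a3 * g0 * a3⁻¹) d.t := fun h => gt (by
    have h3 : Commute a3 d.t := commute_t d _
    have := (h3.inv_left.mul_left h).mul_left h3
    rwa [show a3⁻¹ * (a3 * g0 * a3⁻¹) * a3 = g0 by group] at this)
  refine ⟨c, a3 * g0 * a3⁻¹, ?_, gt', fun n hn => ?_, ?_⟩
  · rw [show a3 * g0 * a3⁻¹ * (a3 * g0 * a3⁻¹) = a3 * (g0 * g0) * a3⁻¹ by group, hg02, mul_one, mul_inv_cancel]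
  · interval_cases n
    · exact fixc _ (six_commute d c (p := 0) (q := 5) (by norm_num) (by norm_num) (by simp)).symm g2
    · exact hmove
    · exact fixc _ (six_commute d c (p := 2) (q := 5) (by norm_num) (by norm_num) (by simp)).symm g5
    · exact fixc _ (six_commute d c (p := 3) (q := 5) (by norm_num) (by norm_num) (by simp)).symm g6
    · exact fixc _ (six_commute d c (p := 4) (q := 5) (by norm_num) (by norm_num) (by simp)).symm (eq7 ▸ g7)
  · show a3 * (a3 * g0 * a3⁻¹) * (a3 * (a3 * g0 * a3⁻¹)) * (a3 * (a3 * g0 * a3⁻¹)) = 1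
    calc a3 * (a3 * g0 * a3⁻¹) * (a3 * (a3 * g0 * a3⁻¹)) * (a3 * (a3 * g0 * a3⁻¹))
        = a3 * (a3 * g0 * (a3 * g0) * (a3 * g0)) * a3⁻¹ := by
          rw [inv_eq_of_mul_eq_one_right ha32]
          simp only [← mul_assoc, ha32, one_mul]
      _ = 1 := by rw [g03, mul_one, mul_inv_cancel]

end Cfsg.Agent.S3298Sp
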