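/-! S3298: words for the thirty roots in six of them, for both signs of the end root. -/

set_option autoImplicit false

namespace Cfsg.Agent.S3298Sp

/-- The words, by sign and by number of the root. -/
def rootWords : List (List (List Nat)) := [
 [
  [],
  [],
  [4],
  [3, 4, 2, 3, 1, 2, 0, 1, 5, 1, 0, 2, 1, 3, 2, 4, 3],
  [3, 4, 3],
  [4, 2, 3, 1, 2, 0, 1, 5, 1, 0, 2, 1, 3, 2, 4],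
  [2, 3, 4, 3, 2],
  [4, 3, 1, 2, 0, 1, 5, 1, 0, 2, 1, 3, 4],
  [1, 2, 3, 4, 3, 2, 1],
  [4, 3, 2, 0, 1, 5, 1, 0, 2, 3, 4],
  [4, 3, 2, 1, 5, 1, 2, 3, 4],
  [0, 1, 2, 3, 4, 3, 2, 1, 0],
  [4],
  [3, 4, 2, 3, 1, 2, 0, 1, 5, 1, 0, 2, 1, 3, 2, 4, 3],
  [],
  [],
  [3],
  [2, 3, 1, 2, 0, 1, 5, 1, 0, 2, 1, 3, 2],
  [2, 3, 2],
  [3, 1, 2, 0, 1, 5, 1, 0, 2, 1, 3],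
  [1, 2, 3, 2, 1],
  [3, 2, 0, 1, 5, 1, 0, 2, 3],
  [3, 2, 1, 5, 1, 2, 3],
  [0, 1, 2, 3, 2, 1, 0],
  [3, 4, 3],
  [4, 2, 3, 1, 2, 0, 1, 5, 1, 0, 2, 1, 3, 2, 4],
  [3],
  [2, 3, 1, 2, 0, 1, 5, 1, 0, 2, 1, 3, 2],
  [],
  [],
  [2],
  [1, 2, 0, 1, 5, 1, 0, 2, 1],
  [1, 2, 1],
  [2, 0, 1, 5, 1, 0, 2],
  [2, 1, 5, 1, 2],
  [0, 1, 2, 1, 0],
  [2, 3, 4, 3, 2],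
  [4, 3, 1, 2, 0, 1, 5, 1, 0, 2, 1, 3, 4],
  [2, 3, 2],
  [3, 1, 2, 0, 1, 5, 1, 0, 2, 1, 3],
  [2],
  [1, 2, 0, 1, 5, 1, 0, 2, 1],
  [],
  [],
  [1],
  [0, 1, 5, 1, 0],
  [1, 5, 1],
  [0, 1, 0],
  [1, 2, 3, 4, 3, 2, 1],
  [4, 3, 2, 0, 1, 5, 1, 0, 2, 3, 4],
  [1, 2, 3, 2, 1],
  [3, 2, 0, 1, 5, 1, 0, 2, 3],
  [1, 2, 1],
  [2, 0, 1, 5, 1, 0, 2],
  [1],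
  [0, 1, 5, 1, 0],
  [],
  [],
  [5],
  [0],
  [4, 3, 2, 1, 5, 1, 2, 3, 4],
  [0, 1, 2, 3, 4, 3, 2, 1, 0],
  [3, 2, 1, 5, 1, 2, 3],
  [0, 1, 2, 3, 2, 1, 0],
  [2, 1, 5, 1, 2],
  [0, 1, 2, 1, 0],
  [1, 5, 1],
  [0, 1, 0],
  [5],
  [0],
  [],
  []],
 [
  [],
  [],
  [3, 4, 2, 3, 1, 2, 0, 1, 5, 1, 0, 2, 1, 3, 2, 4, 3],
  [4],
  [4, 2, 3, 1, 2, 0, 1, 5, 1, 0, 2, 1, 3, 2, 4],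
  [3, 4, 3],
  [4, 3, 1, 2, 0, 1, 5, 1, 0, 2, 1, 3, 4],
  [2, 3, 4, 3, 2],
  [4, 3, 2, 0, 1, 5, 1, 0, 2, 3, 4],
  [1, 2, 3, 4, 3, 2, 1],
  [0, 1, 2, 3, 4, 3, 2, 1, 0],
  [4, 3, 2, 1, 5, 1, 2, 3, 4],
  [3, 4, 2, 3, 1, 2, 0, 1, 5, 1, 0, 2, 1, 3, 2, 4, 3],
  [4],
  [],
  [],
  [3],
  [2, 3, 1, 2, 0, 1, 5, 1, 0, 2, 1, 3, 2],
  [2, 3, 2],
  [3, 1, 2, 0, 1, 5, 1, 0, 2, 1, 3],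
  [1, 2, 3, 2, 1],
  [3, 2, 0, 1, 5, 1, 0, 2, 3],
  [3, 2, 1, 5, 1, 2, 3],
  [0, 1, 2, 3, 2, 1, 0],
  [4, 2, 3, 1, 2, 0, 1, 5, 1, 0, 2, 1, 3, 2, 4],
  [3, 4, 3],
  [3],
  [2, 3, 1, 2, 0, 1, 5, 1, 0, 2, 1, 3, 2],
  [],
  [],
  [2],
  [1, 2, 0, 1, 5, 1, 0, 2, 1],
  [1, 2, 1],
  [2, 0, 1, 5, 1, 0, 2],
  [2, 1, 5, 1, 2],
  [0, 1, 2, 1, 0],
  [4, 3, 1, 2, 0, 1, 5, 1, 0, 2, 1, 3, 4],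
  [2, 3, 4, 3, 2],
  [2, 3, 2],
  [3, 1, 2, 0, 1, 5, 1, 0, 2, 1, 3],
  [2],
  [1, 2, 0, 1, 5, 1, 0, 2, 1],
  [],
  [],
  [1],
  [0, 1, 5, 1, 0],
  [1, 5, 1],
  [0, 1, 0],
  [4, 3, 2, 0, 1, 5, 1, 0, 2, 3, 4],
  [1, 2, 3, 4, 3, 2, 1],
  [1, 2, 3, 2, 1],
  [3, 2, 0, 1, 5, 1, 0, 2, 3],
  [1, 2, 1],
  [2, 0, 1, 5, 1, 0, 2],
  [1],
  [0, 1, 5, 1, 0],
  [],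
  [],
  [5],
  [0],
  [0, 1, 2, 3, 4, 3, 2, 1, 0],
  [4, 3, 2, 1, 5, 1, 2, 3, 4],
  [3, 2, 1, 5, 1, 2, 3],
  [0, 1, 2, 3, 2, 1, 0],
  [2, 1, 5, 1, 2],
  [0, 1, 2, 1, 0],
  [1, 5, 1],
  [0, 1, 0],
  [5],
  [0],
  [],
  []]]

end Cfsg.Agent.S3298Sp
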