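import Cfsg.Agent.Lib.S3298Fus.Entry
import Cfsg.Agent.Lib.S3298Sp.RootWords
import Mathlib.GroupTheory.Perm.Sign

/-!
S3298: roots of the signed permutations of six points.
-/

set_option autoImplicit false
set_option maxRecDepth 100000
set_option maxHeartbeats 1000000
set_option synthInstance.maxSize 10000

namespace Cfsg.Agent.S3298Sp

open SylClasses S3298Fus

/-- A root index. -/
abbrev Rt : Type := Fin 6 × Fin 6 × ZMod 2

/-- The two points differ. -/
def Rt.ok (r : Rt) : Prop := r.1 ≠ r.2.1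

/-- Same two points. -/
def Rt.same (r s : Rt) : Prop := (r.1 = s.1 ∧ r.2.1 = s.2.1) ∨ (r.1 = s.2.1 ∧ r.2.1 = s.1)

/-- No common point. -/
def Rt.apart (r s : Rt) : Prop := r.1 ≠ s.1 ∧ r.1 ≠ s.2.1 ∧ r.2.1 ≠ s.1 ∧ r.2.1 ≠ s.2.1

instance (r s : Rt) : Decidable (r.same s) := by unfold Rt.same; infer_instance
instance (r s : Rt) : Decidable (r.apart s) := by unfold Rt.apart; infer_instance
instance (r : Rt) : Decidable r.ok := by unfold Rt.ok; infer_instance

/-- The root of an index. -/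
def rw6 (r : Rt) : W6 := root r.1 r.2.1 r.2.2

theorem rw6_par : ∀ r : Rt, r.ok → W.par (rw6 r) = 0 := by decide +kernel

/-- The root in the parity kernel, trivial off the roots. -/
def R (r : Rt) : ↥W0 := if h : r.ok then ⟨rw6 r, mem_W0.2 (rw6_par r h)⟩ else 1

theorem R_val {r : Rt} (h : r.ok) : (R r).1 = rw6 r := by rw [R, dif_pos h]

theorem rw6_sq : ∀ r : Rt, r.ok → rw6 r * rw6 r = 1 := by decide +kernel

theorem R_sq (r : Rt) : R r * R r = 1 := by
  by_cases h : r.ok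
  · exact Subtype.ext (by rw [Subgroup.coe_mul, R_val h]; exact rw6_sq r h)
  · rw [R, dif_neg h, one_mul]

theorem rw6_ne : ∀ r : Rt, r.ok → rw6 r ≠ 1 ∧ rw6 r ≠ W.zz := by decide +kernel

theorem R_ne_one {r : Rt} (h : r.ok) : R r ≠ 1 := fun e =>
  (rw6_ne r h).1 (by rw [← R_val h, e]; rfl)

theorem R_ne_z0 {r : Rt} (h : r.ok) : R r ≠ z0 := fun e =>
  (rw6_ne r h).2 (by rw [← R_val h, e]; rfl)

/-- The partner. -/
def Rt.bar (r : Rt) : Rt := (r.1, r.2.1, r.2.2 + 1)

theorem rw6_eq : ∀ r s : Rt, r.ok → s.ok → (rw6 r = rw6 s ↔ r.same s ∧ r.2.2 = s.2.2) := by decide +kernel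

theorem R_eq_iff {r s : Rt} (hr : r.ok) (hs : s.ok) : R r = R s ↔ r.same s ∧ r.2.2 = s.2.2 := by
  rw [← rw6_eq r s hr hs, ← R_val hr, ← R_val hs, Subtype.ext_iff]

theorem rw6_comm : ∀ r s : Rt, r.ok → s.ok →
    (rw6 r * rw6 s = rw6 s * rw6 r ↔ r.same s ∨ r.apart s) := by decide +kernel

theorem commute_R {r s : Rt} (hr : r.ok) (hs : s.ok) : Commute (R r) (R s) ↔ r.same s ∨ r.apart s := by
  rw [← rw6_comm r s hr hs, ← R_val hr, ← R_val hs]
  exact ⟨fun h => congrArg Subtype.val h.eq, fun h => Subtype.ext h⟩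

theorem rw6_braid : ∀ r s : Rt, r.ok → s.ok → r.same s ∨ r.apart s ∨
    rw6 r * rw6 s * (rw6 r * rw6 s) * (rw6 r * rw6 s) = 1 := by decide +kernel

theorem braid_R {r s : Rt} (hr : r.ok) (hs : s.ok) (h : ¬ Commute (R r) (R s)) :
    R r * R s * (R r * R s) * (R r * R s) = 1 := by
  rw [commute_R hr hs, not_or] at h
  rcases rw6_braid r s hr hs with h' | h' | h'
  · exact absurd h' h.1
  · exact absurd h' h.2
  · exact Subtype.ext (by simp only [Subgroup.coe_mul, R_val hr, R_val hs]; exact h')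

theorem sep : ∀ r s : Rt, r.ok → s.ok → ¬ r.same s →
    ∃ k l : Fin 6, k ≠ l ∧ Rt.apart (k, l, 0) r ∧ ¬ Rt.same (k, l, 0) s ∧
      ¬ Rt.apart (k, l, 0) s := by decide +kernel

/-- A root centralised by the centraliser of a root has the same points. -/
theorem same_of_central {r s : Rt} (hr : r.ok) (hs : s.ok)
    (h : ∀ u : ↥W0, Commute u (R r) → Commute u (R s)) : r.same s := by
  by_contra hne
  obtain ⟨k, l, hkl, h1, h2, h3⟩ := sep r s hr hs hne
  have := h (R (k, l, 0)) ((commute_R (r := (k, l, 0)) hkl hr).2 (Or.inr h1))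
  rw [commute_R (r := (k, l, 0)) hkl hs] at this
  exact this.elim h2 h3

theorem rw6_conj : ∀ (u : W6) (i j : Fin 6) (b : ZMod 2), i ≠ j →
    u * root i j b * u⁻¹ = root (u.p i) (u.p j) (b + u.v (u.p i) + u.v (u.p j)) := by
  intro u i j b hij
  have hp : u.p i ≠ u.p j := fun e => hij (u.p.injective e)
  refine W.ext (funext fun k => ?_) ?_
  · simp only [root, W.mul_v, W.inv_v, W.mul_p, Pi.add_apply, Function.comp_apply,
      Equiv.Perm.mul_def, Equiv.symm_trans_apply, Equiv.symm_swap, Equiv.apply_symm_apply]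
    have hk1 : u.p.symm k = i ↔ k = u.p i := Equiv.symm_apply_eq u.p
    have hk2 : u.p.symm k = j ↔ k = u.p j := Equiv.symm_apply_eq u.p
    simp only [hk1, hk2]
    rcases eq_or_ne k (u.p i) with rfl | h1
    · simp [Equiv.symm_apply_apply, add_comm, add_left_comm]
    rcases eq_or_ne k (u.p j) with rfl | h2
    · simp [Equiv.symm_apply_apply, h1]
      ring
    have h1' : u.p.symm k ≠ i := fun e => h1 (hk1.1 e)
    have h2' : u.p.symm k ≠ j := fun e => h2 (hk2.1 e)
    simp [h1, h2, Equiv.swap_apply_of_ne_of_ne h1' h2', CharTwo.add_self_eq_zero]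
  · simp only [root, W.mul_p, W.inv_p]
    exact (Equiv.swap_apply_apply u.p i j).symm

theorem same_bar : ∀ r : Rt, r.same r.bar ∧ r.bar.bar = r ∧ (r.ok → r.bar.ok) := by decide +kernel

/-- The centraliser of a root centralises its partner. -/
theorem commute_bar {r : Rt} (hr : r.ok) {u : ↥W0} (h : Commute u (R r)) : Commute u (R r.bar) := by
  have hb := (same_bar r).2.2 hr
  refine Subtype.ext (mul_inv_eq_iff_eq_mul.1 ?_)
  have h' : u.1 * (R r).1 * u.1⁻¹ = (R r).1 :=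
    mul_inv_eq_iff_eq_mul.2 (congrArg Subtype.val h.eq)
  simp only [Subgroup.coe_mul]
  rw [R_val hr, rw6, rw6_conj _ _ _ _ hr] at h'
  rw [R_val hb, rw6, rw6_conj _ _ _ _ hb]
  obtain ⟨i, j, b⟩ := r
  have hv := congrArg W.v h'
  have hp := congrArg W.p h'
  simp only [root] at hv hp
  refine W.ext (funext fun k => ?_) hp
  have hk := congrFun hv k
  simp only [root, Rt.bar] at hk ⊢
  have hset : (k = u.1.p i ∨ k = u.1.p j) ↔ (k = i ∨ k = j) := by
    have e := DFunLike.congr_fun hp k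
    have moved : ∀ a c x : Fin 6, a ≠ c → (Equiv.swap a c x ≠ x ↔ (x = a ∨ x = c)) := by decide +kernel
    have hne : u.1.p i ≠ u.1.p j := fun e => hr (u.1.p.injective e)
    rw [← moved _ _ k hne, ← moved i j k hr, e]
  show (if k = u.1.p i ∨ k = u.1.p j then b + 1 + u.1.v (u.1.p i) + u.1.v (u.1.p j) else 0) =
    if k = i ∨ k = j then b + 1 else 0
  by_cases hk' : k = i ∨ k = j
  · simp only [hset, if_pos hk'] at hk ⊢
    linear_combination hk
  · simp only [hset, if_neg hk']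

/-- Six roots whose diagram is that of type `D6`, with a sign for the last. -/
def six (c : ZMod 2) (n : ℕ) : Rt :=
  [(4, 5, 1), (3, 4, 0), (2, 3, 0), (1, 2, 0), (0, 1, c), (4, 5, 0)].getD n (4, 5, 0)

theorem six_ok : ∀ (c : ZMod 2) (n : Fin 6), (six c n).ok := by decide +kernel

/-- The number of a root. -/
def rnum (r : Rt) : ℕ := 12 * r.1.val + 2 * r.2.1.val + r.2.2.val

theorem words_ok : ∀ (c : ZMod 2) (r : Rt), r.ok →
    ((rootWords.getD c.val []).getD (rnum r) []).all (fun n => Nat.blt n 6) = true ∧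
      rw6 r = (((rootWords.getD c.val []).getD (rnum r) []).map fun n => rw6 (six c n)).prod := by decide +kernel

theorem R_mem_of_six (c : ZMod 2) {K : Subgroup ↥W0} (h : ∀ n < 6, R (six c n) ∈ K) {r : Rt} (hr : r.ok) :
    R r ∈ K := by
  obtain ⟨h1, h2⟩ := words_ok c r hr
  have e : R r = (((rootWords.getD c.val []).getD (rnum r) []).map fun n => R (six c n)).prod := by
    refine Subtype.ext ?_
    rw [R_val hr, h2]
    have hm := map_list_prod W0.subtype
      (((rootWords.getD c.val []).getD (rnum r) []).map fun n => R (six c n))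
    refine Eq.trans ?_ hm.symm
    rw [List.map_map]
    congr 1
    refine List.map_congr_left fun n hn => ?_
    simp only [List.all_eq_true, Nat.blt_eq] at h1
    show _ = (R (six c n)).1
    rw [R_val (six_ok c ⟨n, h1 n hn⟩)]
  rw [e]
  refine list_prod_mem fun y hy => ?_
  obtain ⟨n, hn, rfl⟩ := List.mem_map.1 hy
  simp only [List.all_eq_true, Nat.blt_eq] at h1
  exact h n (h1 n hn)

theorem flips_even : ∀ v : Fin 6 → ZMod 2, ∑ i, v i = 0 →
    W.fl v = (([0, 1, 2, 3, 4] : List (Fin 6)).map fun i =>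
      if v i = 1 then rw6 (i, 5, 0) * rw6 (i, 5, 1) else 1).prod := by decide +kernel

/-- The roots generate. -/
theorem eq_top_of_six (c : ZMod 2) {K : Subgroup ↥W0} (h : ∀ n < 6, R (six c n) ∈ K) : K = ⊤ := by
  have hroot : ∀ r : Rt, r.ok → R r ∈ K := fun r hr => R_mem_of_six c h hr
  set K' : Subgroup W6 := K.map W0.subtype with hK'
  have hr' : ∀ r : Rt, r.ok → rw6 r ∈ K' := fun r hr => ⟨R r, hroot r hr, R_val hr⟩
  have hpm : ∀ σ : Equiv.Perm (Fin 6), W.pm σ ∈ K' := by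
    intro σ
    induction σ using Equiv.Perm.swap_induction_on with
    | one => exact one_mem K'
    | swap_mul σ a b hab ih =>
      have e : W.pm (Equiv.swap a b * σ) = rw6 (a, b, 0) * W.pm σ := by
        refine W.ext (funext fun k => ?_) rfl
        simp [rw6, root]
      rw [e]
      exact mul_mem (hr' _ hab) ih
  refine eq_top_iff.2 fun w _ => ?_
  obtain ⟨w', hw', e⟩ : w.1 ∈ K' := by
    rw [W.eq_fl_pm w.1, flips_even w.1.v (mem_W0.1 w.2)]
    refine mul_mem (list_prod_mem fun y hy => ?_) (hpm _)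
    obtain ⟨i, hi, rfl⟩ := List.mem_map.1 hy
    have h5 : i ≠ 5 := by rintro rfl; simp at hi
    split_ifs
    · exact mul_mem (hr' _ h5) (hr' _ h5)
    · exact one_mem _
  rwa [show w = w' from (Subtype.ext e).symm]

/-- An element commuting with everything is the all-flip or trivial. -/
theorem center_W0 {w : ↥W0} (h : ∀ r : Rt, r.ok → Commute w (R r)) : w = 1 ∨ w = z0 := by
  have key : ∀ i j : Fin 6, i ≠ j → root (w.1.p i) (w.1.p j) (0 + w.1.v (w.1.p i) + w.1.v (w.1.p j)) = root i j 0 := by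
    intro i j hij
    rw [← rw6_conj _ _ _ _ hij]
    have := mul_inv_eq_iff_eq_mul.2 (congrArg Subtype.val (h (i, j, 0) hij).eq : w.1 * (R (i, j, 0)).1 = (R (i, j, 0)).1 * w.1)
    simp only [Subgroup.coe_mul] at this
    rwa [R_val (show Rt.ok (i, j, 0) from hij)] at this
  have moved : ∀ a c x : Fin 6, a ≠ c → (Equiv.swap a c x ≠ x ↔ (x = a ∨ x = c)) := by decide +kernel
  have hp : w.1.p = 1 := Equiv.ext fun i => by
    by_contra hne
    replace hne : w.1.p i ≠ i := hne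
    obtain ⟨j, hj1, hj2⟩ := (by decide : ∀ a b : Fin 6, ∃ j, j ≠ a ∧ j ≠ b) i (w.1.p i)
    have hsw := DFunLike.congr_fun (congrArg W.p (key i j hj1.symm)) (w.1.p i)
    simp only [root, Equiv.swap_apply_left] at hsw
    rw [Equiv.swap_apply_of_ne_of_ne hne hj2.symm] at hsw
    exact hj1 (w.1.p.injective hsw)
  have hv : ∀ i, w.1.v i = w.1.v 0 := fun i => by
    rcases eq_or_ne i 0 with rfl | h0
    · rfl
    have := congrFun (congrArg W.v (key i 0 h0)) i
    rw [hp] at this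
    simp only [root, Equiv.Perm.one_apply, true_or, if_true, zero_add] at this
    exact CharTwo.add_eq_zero.1 this
  rcases (by decide : ∀ x : ZMod 2, x = 0 ∨ x = 1) (w.1.v 0) with h0 | h0
  · exact Or.inl (Subtype.ext (W.ext (funext fun i => by rw [hv, h0]; rfl) (by rw [hp]; rfl)))
  · exact Or.inr (Subtype.ext (W.ext (funext fun i => by rw [hv, h0]; rfl) (by rw [hp]; rfl)))

/-- The flips of two roots on the same points. -/
def base45 (r : Rt) : W6 :=
  W.fl (fun k => if r.2.2 = 0 ∧ (k = r.1 ∨ k = ([0, 1, 2] : List (Fin 6)).getD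
    (if r.1 ≠ 0 ∧ r.2.1 ≠ 0 then 0 else if r.1 ≠ 1 ∧ r.2.1 ≠ 1 then 1 else 2) 0) then 1 else 0) *
  W.pm (Equiv.swap 4 r.1 * Equiv.swap 5 (Equiv.swap 4 r.1 r.2.1))

theorem base45_ok : ∀ r : Rt, r.ok → W.par (base45 r) = 0 ∧
    base45 r * root 4 5 1 * (base45 r)⁻¹ = rw6 r := by decide +kernel

/-- Every root is conjugate to the first of the six. -/
theorem exists_conj_R (c : ZMod 2) {r : Rt} (hr : r.ok) : ∃ w : ↥W0, w * R (six c 0) * w⁻¹ = R r := by
  obtain ⟨hp, he⟩ := base45_ok r hr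
  refine ⟨⟨base45 r, mem_W0.2 hp⟩, Subtype.ext ?_⟩
  show base45 r * (R (six c 0)).1 * (base45 r)⁻¹ = (R r).1
  rw [R_val (show (six c 0).ok from six_ok c 0), R_val hr]
  exact he

theorem move_shared : ∀ i j k : Fin 6, i ≠ j → k ≠ i → k ≠ j → ∀ b b' : ZMod 2,
    root j k b' * root i j b * (root j k b')⁻¹ = root i k (b + b') := by decide +kernel

theorem fifth : ∀ r s t : Rt, r.apart s → r.apart t → ¬ s.same t → ¬ s.apart t →
    ∃ o : Fin 6, r.1 ≠ o ∧ Rt.apart (r.1, o, 0) s ∧ Rt.apart (r.1, o, 0) t ∧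
      ¬ Rt.same (r.1, o, 0) r ∧ ¬ Rt.apart (r.1, o, 0) r := by
  intro r s t h1 h2 h3 h4
  have key : ∀ a b c d e : Fin 6, ∃ o : Fin 6, o ≠ a ∧ o ≠ b ∧ o ≠ c ∧ o ≠ d ∧ o ≠ e := by
    intro a b c d e
    have hlt : ({a, b, c, d, e} : Finset (Fin 6)).card < (Finset.univ : Finset (Fin 6)).card := by
      refine lt_of_le_of_lt Finset.card_le_five ?_
      simp
    obtain ⟨o, -, ho⟩ := Finset.exists_mem_notMem_of_card_lt_card hlt
    simp only [Finset.mem_insert, Finset.mem_singleton, not_or] at ho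
    exact ⟨o, ho⟩
  obtain ⟨i, j, b⟩ := r
  obtain ⟨k, l, e⟩ := s
  obtain ⟨m, n, f⟩ := t
  simp only [Rt.apart, Rt.same] at *
  have hfree : ∃ o : Fin 6, o ≠ i ∧ o ≠ j ∧ o ≠ k ∧ o ≠ l ∧ o ≠ m ∧ o ≠ n := by
    by_cases hm : m = k ∨ m = l
    · obtain ⟨o, h1, h2, h3, h4, h5⟩ := key i j k l n
      refine ⟨o, h1, h2, h3, h4, ?_, h5⟩
      rcases hm with rfl | rfl <;> assumption
    · obtain ⟨o, h1, h2, h3, h4, h5⟩ := key i j k l m
      refine ⟨o, h1, h2, h3, h4, h5, ?_⟩
      by_cases hn : n = k ∨ n = l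
      · rcases hn with rfl | rfl <;> assumption
      · push Not at hm hn
        exact absurd ⟨hm.1.symm, hn.1.symm, hm.2.symm, hn.2.symm⟩ ‹¬(k ≠ m ∧ k ≠ n ∧ l ≠ m ∧ l ≠ n)›
  obtain ⟨o, o1, o2, o3, o4, o5, o6⟩ := hfree
  refine ⟨o, o1.symm, ⟨h1.1, h1.2.1, o3, o4⟩, ⟨h2.1, h2.2.1, o5, o6⟩, ?_, fun h => h.1 rfl⟩
  rintro (⟨-, h⟩ | ⟨-, h⟩)
  · exact o2 h
  · exact o1 h

end Cfsg.Agent.S3298Sp
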